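import Cfsg.Agent.H298.EOArith

/-!
# Tests with subgroups of exponent five (helper298)

`K` finite simple, `Inn(K) ≤ Y ≤ Aut(K)`, `Y` with a split (B,N)-pair of characteristic `p`. The restriction of the
Steinberg character of `Y` to a subgroup of exponent five excludes

* `p = 31`, `|Y|_p = 31`, a subgroup of order `25` (`no_31`; for `PSL_3(5)`);
* `p = 3`, `|Y|_p ≤ 27`, a subgroup of order `25` and an element of order `7` (`no_27`; for `PSU_3(5)`);
* `p = 3`, `|Y|_p = 81`, a subgroup of order `125` (`no_81`; for `PSU_4(5)`).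
-/

set_option autoImplicit false
set_option linter.unusedSectionVars false

namespace Cfsg.Agent.H298.EOFiveTest

open Cfsg Cfsg.Agent.FixBN Subgroup Cfsg.Agent.Characters Cfsg.Agent.H298.QTest Cfsg.Agent.H298.EOAlm

/-- The Steinberg character and its values at elements of odd prime order. -/
theorem exists_st {Y : Type*} [Group Y] [Finite Y] {p : ℕ} [hpp : Fact p.Prime] (h : HasSplit p Y)
    (hY : ∀ M : Subgroup Y, M.Normal → M ≠ ⊥ → p ∣ Nat.card M) :
    ∃ χ : Y → ℂ, IsCharacter Y χ ∧ χ 1 = ((p ^ (Nat.card Y).factorization p : ℕ) : ℂ) ∧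
      ∀ r : ℕ, r.Prime → r ≠ 2 → r ≠ p → ∀ g : Y, orderOf g = r →
        ∃ k a : ℕ, k ≠ 0 ∧ (Nat.card Y).factorization p = k + a ∧
          ((r ∣ p ^ k - 1 ∧ χ g = ((p ^ a : ℕ) : ℂ)) ∨ (r ∣ p ^ k + 1 ∧ χ g = -((p ^ a : ℕ) : ℂ))) := by
  obtain ⟨χ, ⟨n, ρ, hρ, rfl⟩, hχ1, hχu, hχr⟩ := H329.StSplit.exists_value h
  have hchar : IsCharacter Y ρ.character := ⟨n, ρ, rfl⟩
  refine ⟨ρ.character, hchar, hχ1, ?_⟩
  intro r hr hr2 hrp g hg
  set b := (Nat.card Y).factorization p with hb
  set a := (Nat.card ↥(centralizer ({g} : Set Y))).factorization p with ha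
  have hab : a ≤ b := (Nat.factorization_le_iff_dvd Nat.card_pos.ne' Nat.card_pos.ne').2
    (Subgroup.card_subgroup_dvd_card _) p
  have hord : ¬ p ∣ orderOf g := by
    rw [hg]
    exact fun hd => hrp ((Nat.prime_dvd_prime_iff_eq hpp.out hr).1 hd).symm
  have hne : ρ.character g ≠ ((p ^ b : ℕ) : ℂ) := by
    intro h0
    have h1 : ρ g = LinearMap.id := by
      rw [← Values.character_eq_finrank_iff, ← Representation.char_one ρ, hχ1, h0]
    have hker : g ∈ MonoidHom.ker ρ := h1
    have hnb : MonoidHom.ker ρ ≠ ⊥ := by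
      intro hb
      rw [hb, Subgroup.mem_bot] at hker
      rw [hker, orderOf_one] at hg
      exact hr.one_lt.ne hg
    obtain ⟨y, hy⟩ := exists_prime_orderOf_dvd_card' p (hY _ inferInstance hnb)
    have hy1 : (y : Y) ≠ 1 := by
      intro hh
      have : y = 1 := Subtype.ext hh
      rw [this, orderOf_one] at hy
      exact hpp.out.one_lt.ne hy
    have hpg : IsPGroup p (Subgroup.zpowers (y : Y)) := by
      apply IsPGroup.of_card (n := 1)
      rw [Nat.card_zpowers, Subgroup.orderOf_coe, hy, pow_one]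
    obtain ⟨Q, hQ⟩ := hpg.exists_le_sylow
    have h2 := hχu Q y (hQ (Subgroup.mem_zpowers _)) hy1
    have h3 : ρ.character (y : Y) = ρ.character 1 := by
      have hy2 : ρ (y : Y) = ρ 1 := by rw [map_one]; exact y.2
      change LinearMap.trace ℂ _ (ρ (y : Y)) = LinearMap.trace ℂ _ (ρ 1)
      rw [hy2]
    rw [h3, hχ1] at h2
    have h4 : p ^ b = 0 := by exact_mod_cast h2
    exact (pow_pos hpp.out.pos _).ne' h4
  have hcop : Nat.Coprime r (p ^ a) := Nat.Coprime.pow_right _ ((Nat.coprime_primes hr hpp.out).2 hrp)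
  obtain ⟨k, hk⟩ := Nat.exists_eq_add_of_le hab
  rcases hχr g hord with h2 | h2
  · obtain ⟨j, -, -, hj⟩ := SchurBound.value_eq hr hchar hχ1 g (k := 0) (by rw [hg, zero_add, pow_one])
      (q := ((p ^ a : ℕ) : ℚ)) (by rw [h2]; push_cast; rfl) hne
    rw [h2] at hj
    have hj' : p ^ b = p ^ a + r * j := by
      have h5 := sub_eq_iff_eq_add.1 hj.symm
      exact_mod_cast h5
    refine ⟨k, a, ?_, by rw [hk, add_comm], Or.inl ⟨?_, h2⟩⟩
    · rintro rfl
      rw [add_zero] at hk
      rw [hk] at hne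
      exact hne h2
    · apply hcop.dvd_of_dvd_mul_left
      rw [Nat.mul_sub, mul_one, ← pow_add, ← hk, hj', Nat.add_sub_cancel_left]
      exact dvd_mul_right _ _
  · obtain ⟨j, -, -, hj⟩ := SchurBound.value_eq hr hchar hχ1 g (k := 0) (by rw [hg, zero_add, pow_one])
      (q := -((p ^ a : ℕ) : ℚ)) (by rw [h2]; push_cast; rfl) hne
    rw [h2] at hj
    have hj' : p ^ b + p ^ a = r * j := by
      have h5 := sub_eq_iff_eq_add.1 hj.symm
      have h6 : ((p ^ b : ℕ) : ℂ) + ((p ^ a : ℕ) : ℂ) = r * j := by rw [h5]; ring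
      exact_mod_cast h6
    have hdv : r ∣ p ^ k + 1 := by
      apply hcop.dvd_of_dvd_mul_left
      rw [Nat.mul_add, mul_one, ← pow_add, ← hk, hj']
      exact dvd_mul_right _ _
    refine ⟨k, a, ?_, by rw [hk, add_comm], Or.inr ⟨hdv, h2⟩⟩
    rintro rfl
    rw [pow_zero] at hdv
    exact hr2 ((Nat.prime_dvd_prime_iff_eq hr Nat.prime_two).1 hdv)

/-! ### sums -/

theorem exists_sum {R : Type*} [Group R] [Fintype R] {χ : R → ℂ} (hχ : IsCharacter R χ) :
    ∃ m : ℕ, ∑ x : R, χ x = (Nat.card R : ℂ) * m := by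
  obtain ⟨z, hz⟩ := Core.classInner_isNat hχ (Core.isCharacter_one (G := R))
  refine ⟨z, ?_⟩
  rw [← hz, Core.classInner_def, ← mul_assoc, mul_inv_cancel₀ Core.card_ne_zero_complex, one_mul]
  simp

/-- all values at the nontrivial elements are equal -/
theorem one_value {R : Type*} [Group R] [Finite R] {χ : R → ℂ} (hχ : IsCharacter R χ) {n : ℕ} {c : ℤ}
    (h1 : χ 1 = n) (hv : ∀ x, x ≠ 1 → χ x = c) : ∃ m : ℕ, (n : ℤ) + (Nat.card R - 1) * c = Nat.card R * m := by
  classical
  have := Fintype.ofFinite R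
  obtain ⟨m, hm⟩ := exists_sum hχ
  refine ⟨m, ?_⟩
  have h2 : ∑ x : R, χ x = n + (Nat.card R - 1) * c := by
    rw [← Finset.add_sum_erase Finset.univ χ (Finset.mem_univ 1), h1]
    congr 1
    rw [Finset.sum_congr rfl (fun x hx => hv x (Finset.ne_of_mem_erase hx)), Finset.sum_const, Finset.card_erase_of_mem
      (Finset.mem_univ 1), Finset.card_univ, nsmul_eq_mul, Nat.card_eq_fintype_card, Nat.cast_sub Fintype.card_pos]
    simp
  rw [h2] at hm
  exact_mod_cast hm

/-- the values at the nontrivial elements are `1` or `-9`, the degree is `81` -/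
theorem cnt {R : Type*} [Group R] [Finite R] {χ : R → ℂ} (hχ : IsCharacter R χ) (h1 : χ 1 = 81)
    (hv : ∀ x, x ≠ 1 → χ x = 1 ∨ χ x = -9) :
    ∃ m : ℕ, 80 + Nat.card R = 10 * Nat.card {x : R // χ x = -9} + Nat.card R * m := by
  classical
  have := Fintype.ofFinite R
  obtain ⟨m, hm⟩ := exists_sum hχ
  refine ⟨m, ?_⟩
  have key : ∀ x : R, χ x = 1 + (if x = 1 then 80 else 0) - 10 * (if χ x = -9 then 1 else 0) := by
    intro x
    by_cases hx : x = 1
    · subst hx
      rw [if_pos rfl, h1, if_neg (by norm_num)]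
      norm_num
    · rw [if_neg hx]
      rcases hv x hx with h | h
      · rw [h, if_neg (by norm_num)]; norm_num
      · rw [if_pos h, h]; norm_num
  have h2 : ∑ x : R, χ x = Nat.card R + 80 - 10 * Nat.card {x : R // χ x = -9} := by
    rw [Finset.sum_congr rfl (fun x _ => key x), Finset.sum_sub_distrib, Finset.sum_add_distrib, Finset.sum_const,
      Finset.sum_ite_eq' Finset.univ (1 : R) (fun _ => (80 : ℂ)), if_pos (Finset.mem_univ _), ← Finset.mul_sum,
      Finset.sum_boole, Finset.card_univ, Nat.card_eq_fintype_card, Nat.card_eq_fintype_card, Fintype.card_subtype]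
    simp
  rw [h2] at hm
  have h3 : (Nat.card R : ℂ) + 80 = 10 * Nat.card {x : R // χ x = -9} + Nat.card R * m := by
    rw [← hm]; ring
  have h4 : Nat.card R + 80 = 10 * Nat.card {x : R // χ x = -9} + Nat.card R * m := by exact_mod_cast h3
  rw [add_comm, h4]

theorem two_values {R : Type*} [Group R] [Finite R] (hR : Nat.card R = 125) (h5 : ∀ x : R, x ^ 5 = 1) {χ : R → ℂ}
    (hχ : IsCharacter R χ) (h1 : χ 1 = 81) (hv : ∀ x, x ≠ 1 → χ x = 1 ∨ χ x = -9) : False := by
  classical
  have : Fact (Nat.Prime 5) := ⟨by norm_num⟩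
  have hcl := Core.isCharacter_isClassFunction hχ
  have hcard : Nat.card {x : R // χ x = -9} = 8 := by
    obtain ⟨m, hm⟩ := cnt hχ h1 hv
    rw [hR] at hm
    omega
  -- a central element
  obtain ⟨z, hz9, hzc⟩ : ∃ z : R, χ z = -9 ∧ ∀ g, g * z = z * g := by
    let _ : MulAction R {x : R // χ x = -9} :=
      { smul := fun g x => ⟨g * x.1 * g⁻¹, (hcl x.1 g).trans x.2⟩
        one_smul := fun x => Subtype.ext (by change 1 * x.1 * 1⁻¹ = x.1; group)
        mul_smul := fun g h x => Subtype.ext (by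
          change g * h * x.1 * (g * h)⁻¹ = g * (h * x.1 * h⁻¹) * g⁻¹; group) }
    have hp : IsPGroup 5 R := IsPGroup.of_card (n := 3) (by rw [hR]; norm_num)
    have h2 := hp.card_modEq_card_fixedPoints {x : R // χ x = -9}
    rw [hcard] at h2
    have h3 : Nat.card (MulAction.fixedPoints R {x : R // χ x = -9}) ≠ 0 := by
      intro h0
      rw [h0] at h2
      exact absurd h2 (by decide)
    obtain ⟨⟨⟨⟨z, hz⟩, hzf⟩⟩, -⟩ := Nat.card_ne_zero.1 h3
    refine ⟨z, hz, fun g => ?_⟩
    have h4 := congrArg Subtype.val (hzf g)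
    change g * z * g⁻¹ = z at h4
    rw [mul_inv_eq_iff_eq_mul] at h4
    exact h4
  have hz1 : z ≠ 1 := by
    rintro rfl
    rw [h1] at hz9
    norm_num at hz9
  have hord : ∀ x : R, x ≠ 1 → orderOf x = 5 := fun x hx => orderOf_eq_prime (h5 x) hx
  set Z : Subgroup R := zpowers z with hZ
  have hZcard : Nat.card Z = 5 := by rw [hZ, Nat.card_zpowers, hord z hz1]
  have hZn : Z.Normal := ⟨fun a ha g => by
    obtain ⟨i, rfl⟩ := mem_zpowers_iff.1 ha
    have h2 : Commute g z := hzc g
    have h3 : g * z ^ i * g⁻¹ = z ^ i := by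
      rw [mul_inv_eq_iff_eq_mul]
      exact h2.zpow_right i
    rw [h3]
    exact zpow_mem (mem_zpowers z) i⟩
  -- the subgroups of order 25
  have key : ∀ x : R, x ∉ Z → ∀ y : R, χ y = -9 → y ∈ (zpowers (QuotientGroup.mk' Z x)).comap (QuotientGroup.mk' Z) := by
    intro x hx
    set E := (zpowers (QuotientGroup.mk' Z x)).comap (QuotientGroup.mk' Z) with hE
    have hq : orderOf (QuotientGroup.mk' Z x) = 5 := by
      apply orderOf_eq_prime
      · rw [← map_pow, h5, map_one]
      · intro h0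
        exact hx ((QuotientGroup.eq_one_iff x).1 h0)
    have hEi : E.index * 5 = 25 := by
      have h2 : E.index = (zpowers (QuotientGroup.mk' Z x)).index := by
        rw [hE]
        exact Subgroup.index_comap_of_surjective _ (QuotientGroup.mk'_surjective Z)
      have h3 := (zpowers (QuotientGroup.mk' Z x)).card_mul_index
      have h4 : Nat.card (R ⧸ Z) = 25 := by
        have h5' := Subgroup.card_eq_card_quotient_mul_card_subgroup Z
        rw [hR, hZcard] at h5'
        omega
      rw [Nat.card_zpowers, hq, h4] at h3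
      rw [h2]
      omega
    have hEcard : Nat.card E = 25 := by
      have h2 := E.card_mul_index
      rw [hR] at h2
      have h3 : E.index = 5 := by omega
      rw [h3] at h2
      omega
    have hχE : IsCharacter E (fun e : E => χ e) := Core.isCharacter_comp E.subtype hχ
    obtain ⟨m, hm⟩ := cnt hχE (by change χ ((1 : E) : R) = 81; rw [OneMemClass.coe_one, h1]) (fun e he => hv e fun h0 =>
      he (Subtype.ext h0))
    rw [hEcard] at hm
    have hZE : Z ≤ E := by
      intro a ha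
      rw [hE, mem_comap, show QuotientGroup.mk' Z a = 1 from (QuotientGroup.eq_one_iff a).2 ha]
      exact one_mem _
    have h4le : 4 ≤ Nat.card {e : E // χ e = -9} := by
      let f : Fin 4 → {e : E // χ e = -9} := fun i => ⟨⟨z ^ ((i : ℕ) + 1), hZE (pow_mem (mem_zpowers z) _)⟩, by
        change χ (z ^ ((i : ℕ) + 1)) = -9
        rw [SchurBound.value_pow hχ z (q := -9) (by rw [hz9]; norm_num) (N := 5) (by norm_num) (h5 z), hz9]
        have := i.2
        apply Nat.Coprime.symm
        rw [Nat.Prime.coprime_iff_not_dvd (by norm_num)]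
        intro hd
        have := Nat.le_of_dvd (by omega) hd
        omega⟩
      have hf : Function.Injective f := by
        intro i j hij
        have h6 : z ^ ((i : ℕ) + 1) = z ^ ((j : ℕ) + 1) := congrArg (fun e : {e : E // χ e = -9} => ((e : E) : R)) hij
        have h7 := pow_injOn_Iio_orderOf (x := z) (by
          change (i : ℕ) + 1 < orderOf z
          rw [hord z hz1]
          omega) (by
          change (j : ℕ) + 1 < orderOf z
          rw [hord z hz1]
          omega) h6
        exact Fin.ext (by omega)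
      have := Nat.card_le_card_of_injective f hf
      rwa [Nat.card_eq_fintype_card, Fintype.card_fin] at this
    have h8 : Nat.card {e : E // χ e = -9} = 8 := by omega
    have hinj : Function.Injective (fun e : {e : E // χ e = -9} => (⟨(e : E), e.2⟩ : {x : R // χ x = -9})) := by
      intro a b hab
      have : ((a : E) : R) = ((b : E) : R) := congrArg (fun w : {x : R // χ x = -9} => (w : R)) hab
      exact Subtype.ext (Subtype.ext this)
    have hbij := (Nat.bijective_iff_injective_and_card _).2 ⟨hinj, by rw [h8, hcard]⟩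
    intro y hy
    obtain ⟨e, he⟩ := hbij.2 ⟨y, hy⟩
    have h9 : ((e : E) : R) = y := congrArg (fun w : {x : R // χ x = -9} => (w : R)) he
    rw [← h9]
    exact (e : E).2
  -- two of them
  have hlt : ∀ H : Subgroup R, Nat.card H < 125 → ∃ x, x ∉ H := by
    intro H hH
    by_contra hcon
    push Not at hcon
    have : H = ⊤ := eq_top_iff.2 fun x _ => hcon x
    rw [this, Subgroup.card_top, hR] at hH
    omega
  obtain ⟨x, hx⟩ := hlt Z (by rw [hZcard]; norm_num)
  set E := (zpowers (QuotientGroup.mk' Z x)).comap (QuotientGroup.mk' Z) with hE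
  have hne : ∃ x', x' ∉ E := by
    by_contra hcon
    push Not at hcon
    have h2 : zpowers (QuotientGroup.mk' Z x) = ⊤ := by
      rw [eq_top_iff]
      intro y _
      obtain ⟨y, rfl⟩ := QuotientGroup.mk'_surjective Z y
      exact hcon y
    have h3 : Nat.card (R ⧸ Z) = 25 := by
      have h5' := Subgroup.card_eq_card_quotient_mul_card_subgroup Z
      rw [hR, hZcard] at h5'
      omega
    rw [← Subgroup.card_top, ← h2, Nat.card_zpowers] at h3
    have h4 : orderOf (QuotientGroup.mk' Z x) ∣ 5 := orderOf_dvd_of_pow_eq_one (by rw [← map_pow, h5, map_one])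
    rw [h3] at h4
    exact absurd h4 (by decide)
  obtain ⟨x', hx'⟩ := hne
  have hx'Z : x' ∉ Z := by
    intro h0
    apply hx'
    rw [hE, mem_comap, show QuotientGroup.mk' Z x' = 1 from (QuotientGroup.eq_one_iff x').2 h0]
    exact one_mem _
  have hsub : ∀ y : R, χ y = -9 → y ∈ Z := by
    intro y hy
    have h2 := key x hx y hy
    have h3 := key x' hx'Z y hy
    rw [mem_comap] at h2 h3
    by_contra hyZ
    have hq : ∀ w : R, w ∉ Z → orderOf (QuotientGroup.mk' Z w) = 5 := by
      intro w hw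
      apply orderOf_eq_prime
      · rw [← map_pow, h5, map_one]
      · intro h0
        exact hw ((QuotientGroup.eq_one_iff w).1 h0)
    have h4 : zpowers (QuotientGroup.mk' Z y) = zpowers (QuotientGroup.mk' Z x') := by
      apply Subgroup.eq_of_le_of_card_ge
      · rwa [zpowers_le]
      · rw [Nat.card_zpowers, Nat.card_zpowers, hq y hyZ, hq x' hx'Z]
    apply hx'
    rw [hE, mem_comap]
    have h6 : QuotientGroup.mk' Z x' ∈ zpowers (QuotientGroup.mk' Z y) := by rw [h4]; exact mem_zpowers _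
    exact (zpowers_le.2 h2) h6
  have hfin : Nat.card {x : R // χ x = -9} ≤ Nat.card Z :=
    Nat.card_le_card_of_injective (fun e : {x : R // χ x = -9} => (⟨e.1, hsub e.1 e.2⟩ : Z)) fun a b hab =>
      Subtype.ext (congrArg (fun w : Z => (w : R)) hab)
  rw [hcard, hZcard] at hfin
  omega

/-! ### the almost simple groups -/

section Almost

variable {K : Type*} [Group K] [Finite K] [IsSimpleGroup K] (hna : ¬ IsMulCommutative K)

/-- the restriction of the Steinberg character to a subgroup of `K` -/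
theorem exists_restr {p : ℕ} [hpp : Fact p.Prime] (hpK : p ∣ Nat.card K) (hA : Almost p K) (R : Subgroup K) :
    ¬ IsMulCommutative K → ∃ (b : ℕ) (χ : R → ℂ), p ^ b ∣ Nat.card (MulAut K) ∧ (∀ j, p ^ j ∣ Nat.card K → j ≤ b) ∧
      IsCharacter R χ ∧ χ 1 = ((p ^ b : ℕ) : ℂ) ∧
      (∀ r : ℕ, r.Prime → r ≠ 2 → r ≠ p → ∀ g : R, orderOf g = r → ∃ k a : ℕ, k ≠ 0 ∧ b = k + a ∧
          ((r ∣ p ^ k - 1 ∧ χ g = ((p ^ a : ℕ) : ℂ)) ∨ (r ∣ p ^ k + 1 ∧ χ g = -((p ^ a : ℕ) : ℂ)))) ∧
      (∀ r : ℕ, r.Prime → r ≠ 2 → r ≠ p → r ∣ Nat.card K → ∃ k a : ℕ, k ≠ 0 ∧ b = k + a ∧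
          (r ∣ p ^ k - 1 ∨ r ∣ p ^ k + 1)) := by
  intro hna
  obtain ⟨Y, hI, hY⟩ := hA
  obtain ⟨χ, hχ, h1, hv⟩ := exists_st hY (dvd_card_normal hna Y hI hpK)
  refine ⟨(Nat.card Y).factorization p, fun x => χ (((ii Y hI).comp R.subtype) x),
    (Nat.ordProj_dvd (Nat.card Y) p).trans (Subgroup.card_subgroup_dvd_card Y), ?_,
    Core.isCharacter_comp ((ii Y hI).comp R.subtype) hχ, ?_, ?_, ?_⟩
  · intro j hj
    rw [← hpp.out.pow_dvd_iff_le_factorization Nat.card_pos.ne']
    refine hj.trans ?_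
    rw [Nat.card_congr (MonoidHom.ofInjective (ii_injective hna Y hI)).toEquiv]
    exact Subgroup.card_subgroup_dvd_card _
  · change χ _ = _
    rw [map_one, h1]
  · intro r hr hr2 hrp g hg
    have hinj : Function.Injective ((ii Y hI).comp R.subtype) := by
      rw [MonoidHom.coe_comp]
      exact (ii_injective hna Y hI).comp R.subtype_injective
    have ho : orderOf (((ii Y hI).comp R.subtype) g) = r := by
      rw [orderOf_injective _ hinj, hg]
    exact hv r hr hr2 hrp _ ho
  · intro r hr hr2 hrp hrK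
    have : Fact r.Prime := ⟨hr⟩
    obtain ⟨g, hg⟩ := exists_prime_orderOf_dvd_card' (G := K) r hrK
    obtain ⟨k, a, h2, h3, h4⟩ := hv r hr hr2 hrp (ii Y hI g) (by rw [orderOf_injective _ (ii_injective hna Y hI), hg])
    exact ⟨k, a, h2, h3, h4.imp And.left And.left⟩

include hna in
/-- `PSL_3(5)` -/
theorem no_31 (hK : 31 ∣ Nat.card K) (hM : ¬ 31 ^ 2 ∣ Nat.card (MulAut K)) (R : Subgroup K) (hR : Nat.card R = 25)
    (h5 : ∀ x ∈ R, x ^ 5 = 1) : ¬ Almost 31 K := by
  intro hA
  have : Fact (Nat.Prime 31) := ⟨by norm_num⟩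
  obtain ⟨b, χ, hb, hb', hχ, h1, hv, -⟩ := exists_restr hK hA R hna
  have hb1 : b = 1 := by
    have h2 := hb' 1 (by rwa [pow_one])
    have h3 : ¬ 2 ≤ b := fun h => hM ((pow_dvd_pow 31 h).trans hb)
    omega
  subst hb1
  obtain ⟨m, hm⟩ := one_value hχ (n := 31) (c := 1) (by rw [h1]; norm_num) (fun x hx => by
    have hx5 : orderOf x = 5 := orderOf_eq_prime (Subtype.ext (h5 x x.2)) hx (hp := ⟨by norm_num⟩)
    obtain ⟨k, a, hk, hka, h⟩ := hv 5 (by norm_num) (by norm_num) (by norm_num) x hx5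
    obtain rfl : k = 1 := by omega
    obtain rfl : a = 0 := by omega
    rcases h with ⟨-, h⟩ | ⟨h, -⟩
    · rw [h]; norm_num
    · norm_num at h)
  rw [hR] at hm
  push_cast at hm
  omega

include hna in
/-- `PSU_3(5)` -/
theorem no_27 (hK : 3 ∣ Nat.card K) (hM : ¬ 3 ^ 4 ∣ Nat.card (MulAut K)) (h7 : 7 ∣ Nat.card K) (R : Subgroup K)
    (hR : Nat.card R = 25) (h5 : ∀ x ∈ R, x ^ 5 = 1) : ¬ Almost 3 K := by
  intro hA
  have : Fact (Nat.Prime 3) := ⟨Nat.prime_three⟩
  obtain ⟨b, χ, hb, hb', hχ, h1, hv, hv'⟩ := exists_restr hK hA R hna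
  have hb3 : b ≤ 3 := by
    by_contra h
    exact hM ((pow_dvd_pow 3 (by omega)).trans hb)
  have hb1 : b = 3 := by
    obtain ⟨k, a, hk, hka, h⟩ := hv' 7 (by norm_num) (by norm_num) (by norm_num) h7
    have hk3 : k ≤ 3 := by omega
    interval_cases k
    · exact absurd rfl hk
    · norm_num at h
    · norm_num at h
    · omega
  subst hb1
  obtain ⟨m, hm⟩ := one_value hχ (n := 27) (c := -3) (by rw [h1]; norm_num) (fun x hx => by
    have hx5 : orderOf x = 5 := orderOf_eq_prime (Subtype.ext (h5 x x.2)) hx (hp := ⟨by norm_num⟩)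
    obtain ⟨k, a, hk, hka, h⟩ := hv 5 (by norm_num) (by norm_num) (by norm_num) x hx5
    have hk3 : k ≤ 3 := by omega
    interval_cases k
    · exact absurd rfl hk
    · norm_num at h
    · obtain rfl : a = 1 := by omega
      rcases h with ⟨h, -⟩ | ⟨-, h⟩
      · norm_num at h
      · rw [h]; norm_num
    · norm_num at h)
  rw [hR] at hm
  push_cast at hm
  omega

include hna in
/-- `PSU_4(5)` -/
theorem no_81 (hK : 3 ^ 4 ∣ Nat.card K) (hM : ¬ 3 ^ 5 ∣ Nat.card (MulAut K)) (R : Subgroup K)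
    (hR : Nat.card R = 125) (h5 : ∀ x ∈ R, x ^ 5 = 1) : ¬ Almost 3 K := by
  intro hA
  have : Fact (Nat.Prime 3) := ⟨Nat.prime_three⟩
  obtain ⟨b, χ, hb, hb', hχ, h1, hv, -⟩ := exists_restr ((dvd_pow_self 3 (by norm_num)).trans hK) hA R hna
  have hb1 : b = 4 := by
    have h2 := hb' 4 hK
    have h3 : ¬ 5 ≤ b := fun h => hM ((pow_dvd_pow 3 h).trans hb)
    omega
  subst hb1
  refine two_values hR (fun x => Subtype.ext (h5 x x.2)) hχ (by rw [h1]; norm_num) (fun x hx => ?_)
  have hx5 : orderOf x = 5 := orderOf_eq_prime (Subtype.ext (h5 x x.2)) hx (hp := ⟨by norm_num⟩)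
  obtain ⟨k, a, hk, hka, h⟩ := hv 5 (by norm_num) (by norm_num) (by norm_num) x hx5
  have hk4 : k ≤ 4 := by omega
  interval_cases k
  · exact absurd rfl hk
  · norm_num at h
  · obtain rfl : a = 2 := by omega
    rcases h with ⟨h, -⟩ | ⟨-, h⟩
    · norm_num at h
    · right; rw [h]; norm_num
  · norm_num at h
  · obtain rfl : a = 0 := by omega
    rcases h with ⟨-, h⟩ | ⟨h, -⟩
    · left; rw [h]; norm_num
    · norm_num at h

end Almost

end Cfsg.Agent.H298.EOFiveTest
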