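import Cfsg.Agent.H283.SporFourA
import Cfsg.Agent.H287.FixInnB
import Cfsg.Agent.CTwoTab.Co1
import Cfsg.Agent.S1163
/-!
# S3092, the sporadic rows `Ru` and `Co₁` (helper298)

* `ru`  : `X ≅ Ru`, `In1 X A` : `A ≅ Sz(8)`;
* `co1` : `X ≅ Co₁`, `In1 X A` : `A ≅ G₂(4)`.
-/

set_option autoImplicit false

universe u v

namespace Cfsg.Agent.H298.FourRuCo

open Cfsg Subgroup Cfsg.Agent.SignalizersComponents Cfsg.Agent.SignalizersComponents.Components
open Cfsg.Agent.H283.FourStd Cfsg.Agent.H283.FourSpor Cfsg.Agent.CTwoTab Cfsg.Agent.H287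

/-- all components of the centralizer of a conjugate of `s` are isomorphic to `Y` -/
theorem iso_conj {X : Type u} [Group X] {Y : Type v} [Group Y] {s : X}
    (h : ∀ K : Subgroup X, IsComponentOf K (centralizer ({s} : Set X)) → Nonempty (↥K ≃* Y)) (g : X) (K : Subgroup X)
    (hK : IsComponentOf K (centralizer ({g * s * g⁻¹} : Set X))) : Nonempty (↥K ≃* Y) := by
  have h1 := isComponentOf_map (MulAut.conj g).symm hK
  rw [map_centralizer_singleton] at h1
  have h3 : (MulAut.conj g).symm (g * s * g⁻¹) = s := by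
    rw [MulEquiv.symm_apply_eq]; rfl
  rw [h3] at h1
  obtain ⟨e⟩ := h _ h1
  exact ⟨(subMap (MulAut.conj g).symm K).trans e⟩

variable {X : Type u} [Group X] {A : Type v} [Group A]

open Cfsg.Agent.KFacts.Ru Cfsg.Agent.CTwoTab.Ru Cfsg.Agent.RuB in
/-- **`Ru`** -/
theorem ru [Finite X] (h : Spor.IsoRu X) (F : In1 X A) :
    ∃ (K : Type) (_ : Field K) (_ : Fintype K), Fintype.card K = 8 ∧ Nonempty (A ≃* ↥(Cfsg.Lie.Sz K 4)) := by
  obtain ⟨C, hsz, hc⟩ := exists_core_sz h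
  have hs : IsSimpleGroup ↥C.L := simple_sz hsz
  have hna := na_L C
  have hx1 : F.t ≠ 1 := by
    intro h0
    have := F.ht
    rw [h0, orderOf_one] at this
    omega
  have hxx : F.t * F.t = 1 := by rw [← pow_two, ← F.ht, pow_orderOf_eq_one]
  have key : Nonempty (↥F.L ≃* ↥C.L) := by
    have hF := F.comp
    rcases InvC.invol_cases C hxx hx1 with ⟨g, hg⟩ | ⟨g, a, ha, hg⟩
    · rw [← hg] at hF
      exact iso_conj (fun K hK => absurd hK (no_comp_z C K)) g _ hF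
    · rw [← hg] at hF
      refine iso_conj (fun K hK => ?_) g _ hF
      have h1 : K = C.L := comp_eq (CTwoTab.isQuasisimple_of_simple hna) (le_cent C a) (perfect_le_L C ha) hK
      subst h1
      exact ⟨MulEquiv.refl _⟩
  obtain ⟨K, _, _, m, hm, hK, ⟨e⟩⟩ := hsz
  have h1 : m = 1 := by
    have h2 := Nat.card_congr e.toEquiv
    rw [hc] at h2
    have h3 := (S1163.result (F := K) hm hK).1
    rw [h3] at h2
    by_contra h4
    have h5 : 2 ≤ m := by omega
    have h6 : 2 ^ 5 ≤ 2 ^ (2 * m + 1) := Nat.pow_le_pow_right (by norm_num) (by omega)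
    have h8 : 32 ^ 2 ≤ (2 ^ (2 * m + 1)) ^ 2 := Nat.pow_le_pow_left (by omega) 2
    have h9 : 32 - 1 ≤ 2 ^ (2 * m + 1) - 1 := by omega
    have h7 := Nat.mul_le_mul (Nat.mul_le_mul h8 h9) (Nat.add_le_add_right h8 1)
    exact absurd (h7.trans (le_of_eq h2.symm)) (by norm_num)
  subst h1
  obtain ⟨f⟩ := key
  exact ⟨K, inferInstance, inferInstance, by rw [hK]; norm_num, ⟨(F.e.symm.trans f).trans e⟩⟩

open Cfsg.Agent.SporadicA.Co0Mono Cfsg.Agent.SporadicA.GolayBase Cfsg.Agent.KFacts.Co1D4 Cfsg.Agent.CTwoTab.Co1 in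
/-- **`Co₁`** -/
theorem co1 (h : Spor.IsoCo1 X) (F : In1 X A) :
    ∃ (K : Type) (_ : Field K) (_ : Fintype K), Fintype.card K = 4 ∧ Nonempty (A ≃* ↥(Cfsg.Lie.chevG2.group K)) := by
  obtain ⟨e⟩ := h
  obtain ⟨F', -, -, -⟩ := F.of_equiv e
  have key : Nonempty (↥F'.L ≃* ↥GTwo.L) := by
    have hF := F'.comp
    obtain ⟨g, s, hs, hg⟩ := exists_rep F'.t F'.ht
    rw [hg] at hF
    refine iso_conj (fun K hK => ?_) g _ hF
    rcases hs with ⟨o, ho, rfl⟩ | ⟨d, hd, rfl⟩ | rfl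
    · exact absurd hK ((ctr_octad ho).no_comp K)
    · exact absurd hK ((ctr_dodecad hd).no_comp K)
    · rw [comp_twoB hK]
      exact ⟨MulEquiv.refl _⟩
  obtain ⟨f⟩ := key
  obtain ⟨e2⟩ := StdG24.Iso6.equiv_chev SporRec.GF4.F4 SporRec.GF4.F4.card_F4
  exact ⟨SporRec.GF4.F4, inferInstance, inferInstance, SporRec.GF4.F4.card_F4,
    ⟨((F'.e.symm.trans f).trans GTwo.φ.symm).trans e2⟩⟩

end Cfsg.Agent.H298.FourRuCo
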