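import Cfsg.Agent.H298.EOAlm

/-!
# Numerical certificates for the `r`-test (helper298)

`kill` : if `|K| = N` and `|Aut(K)| = M` satisfy `chk N M a b l`, then no almost simple group with socle `K` has a split
(B,N)-pair of odd characteristic `p ≠ 3`; also `p ≠ 3`, if `b = 0`.
-/

set_option autoImplicit false
set_option linter.unusedSectionVars false

namespace Cfsg.Agent.H298.EOArith

open Cfsg Subgroup Cfsg.Agent.FixBN Cfsg.Agent.H298.EOAlm Cfsg.Agent.H298.QTest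

theorem dvd_card_of_hasSplit {Y : Type*} [Group Y] [Finite Y] {p : ℕ} [hp : Fact p.Prime] (h : HasSplit p Y) :
    p ∣ Nat.card Y := by
  obtain ⟨P, U, ⟨s, hs⟩, h⟩ := h
  obtain ⟨V, hV⟩ := h.node s hs
  obtain ⟨u, hu, huV⟩ := hV.ne
  have h1 : u ≠ 1 := by
    rintro rfl
    exact huV (one_mem V)
  obtain ⟨n, hn⟩ := (IsPGroup.iff_card).1 h.isP
  have h2 : n ≠ 0 := by
    rintro rfl
    rw [pow_zero, Subgroup.card_eq_one] at hn
    rw [hn, mem_bot] at hu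
    exact h1 hu
  exact (dvd_pow_self p h2).trans (hn ▸ Subgroup.card_subgroup_dvd_card U)

/-- some primes -/
def PL : List ℕ := [3, 5, 7, 11, 13, 17, 19, 31, 41, 43, 127, 257]

theorem prime_of_mem {q : ℕ} (h : q ∈ PL) : q.Prime := by
  simp only [PL, List.mem_cons, List.not_mem_nil, or_false] at h
  rcases h with rfl | rfl | rfl | rfl | rfl | rfl | rfl | rfl | rfl | rfl | rfl | rfl <;> norm_num

theorem ne_two_of_mem {q : ℕ} (h : q ∈ PL) : q ≠ 2 := by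
  rintro rfl
  exact absurd h (by decide)

/-- one prime: `(p, v, r)` -/
def chk1 (N M : ℕ) (t : ℕ × ℕ × ℕ) : Bool :=
  PL.contains t.1 && PL.contains t.2.2 && !(Nat.beq t.1 t.2.2) && Nat.beq (N % t.1) 0 && Nat.beq (N % t.2.2) 0 &&
    !(Nat.beq (M % t.1 ^ (t.2.1 + 1)) 0) &&
    (List.range t.2.1).all fun k => !(Nat.beq ((t.1 ^ (2 * (k + 1)) - 1) % t.2.2) 0)

/-- the certificate -/
def chk (N M a b : ℕ) (l : List (ℕ × ℕ × ℕ)) : Bool :=
  Nat.beq M (2 ^ a * 3 ^ b * (l.map fun t => t.1 ^ t.2.1).prod) && l.all (chk1 N M) && Nat.beq (N % 3) 0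

theorem chk1_spec {N M p v r : ℕ} (h : chk1 N M (p, v, r) = true) :
    p ∈ PL ∧ r ∈ PL ∧ p ≠ r ∧ p ∣ N ∧ r ∣ N ∧ ¬ p ^ (v + 1) ∣ M ∧ ∀ k, k < v → ¬ r ∣ p ^ (2 * (k + 1)) - 1 := by
  simp only [chk1, Bool.and_eq_true, Bool.not_eq_true', List.all_eq_true, List.mem_range, Nat.beq_eq,
    List.contains_iff_mem] at h
  obtain ⟨⟨⟨⟨⟨⟨h1, h2⟩, h3⟩, h4⟩, h5⟩, h6⟩, h7⟩ := h
  have key : ∀ a b : ℕ, Nat.beq a b = false → a ≠ b := fun a b h h' => by
    rw [h', Nat.beq_refl] at h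
    cases h
  refine ⟨h1, h2, key _ _ h3, Nat.dvd_of_mod_eq_zero h4, Nat.dvd_of_mod_eq_zero h5,
    fun hd => key _ _ h6 (Nat.mod_eq_zero_of_dvd hd), fun k hk hd => key _ _ (h7 k hk) (Nat.mod_eq_zero_of_dvd hd)⟩

theorem exists_of_dvd_prod {p : ℕ} (hp : p.Prime) {l : List (ℕ × ℕ × ℕ)}
    (h : p ∣ (l.map fun t => t.1 ^ t.2.1).prod) : ∃ t ∈ l, p ∣ t.1 := by
  induction l with
  | nil => exact absurd h (by simpa using hp.one_lt.ne')
  | cons t l ih =>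
    rw [List.map_cons, List.prod_cons, hp.dvd_mul] at h
    rcases h with h | h
    · exact ⟨t, List.mem_cons_self, hp.dvd_of_dvd_pow h⟩
    · obtain ⟨t', ht', h'⟩ := ih h
      exact ⟨t', List.mem_cons_of_mem _ ht', h'⟩

/-- **The certificate works.** -/
theorem kill {N M a b : ℕ} {l : List (ℕ × ℕ × ℕ)} (h : chk N M a b l = true) {K : Type*} [Group K] [Finite K]
    [IsSimpleGroup K] (hna : ¬ IsMulCommutative K) (hN : Nat.card K = N) (hM : Nat.card (MulAut K) = M)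
    {p : ℕ} (hp : p.Prime) (hp2 : p ≠ 2) (hY : Almost p K) : p = 3 ∧ b ≠ 0 := by
  have := Fact.mk hp
  obtain ⟨Y, hI, hY⟩ := hY
  simp only [chk, Bool.and_eq_true, Nat.beq_eq, List.all_eq_true] at h
  obtain ⟨⟨h1, h2⟩, -⟩ := h
  have h3 : p ∣ M := hM ▸ (dvd_card_of_hasSplit hY).trans (Subgroup.card_subgroup_dvd_card Y)
  rw [h1, hp.dvd_mul, hp.dvd_mul] at h3
  rcases h3 with (h3 | h3) | h3
  · exact absurd ((Nat.prime_dvd_prime_iff_eq hp Nat.prime_two).1 (hp.dvd_of_dvd_pow h3)) hp2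
  · refine ⟨(Nat.prime_dvd_prime_iff_eq hp Nat.prime_three).1 (hp.dvd_of_dvd_pow h3), ?_⟩
    rintro rfl
    exact hp.one_lt.ne' (Nat.dvd_one.1 (by simpa using h3))
  · exfalso
    obtain ⟨⟨q, v, r⟩, ht, hq⟩ := exists_of_dvd_prod hp h3
    obtain ⟨k1, k2, k3, k4, k5, k6, k7⟩ := chk1_spec (h2 _ ht)
    obtain rfl := (Nat.prime_dvd_prime_iff_eq hp (prime_of_mem k1)).1 hq
    obtain ⟨k, hk0, hk, hd⟩ := qtest_card hna Y hI hY (hN ▸ k4) (prime_of_mem k2) (ne_two_of_mem k2) (Ne.symm k3) (hN ▸ k5)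
    have hv : (Nat.card (MulAut K)).factorization p ≤ v := by
      by_contra hc
      push Not at hc
      apply k6
      rw [← hM]
      exact (hp.pow_dvd_iff_le_factorization Nat.card_pos.ne').2 hc
    obtain ⟨j, rfl⟩ : ∃ j, k = j + 1 := ⟨k - 1, by omega⟩
    exact k7 j (by omega) hd

theorem three_dvd {N M a b : ℕ} {l : List (ℕ × ℕ × ℕ)} (h : chk N M a b l = true) : 3 ∣ N := by
  simp only [chk, Bool.and_eq_true, Nat.beq_eq, List.all_eq_true] at h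
  exact Nat.dvd_of_mod_eq_zero h.2

end Cfsg.Agent.H298.EOArith
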