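import Cfsg.Agent.H298.EODeg
import Cfsg.Agent.H340.OddLie
import Cfsg.Agent.H284.SepOrd
import Cfsg.Agent.OrdDiv.Table
import Cfsg.Agent.H284.FStd
import Cfsg.Agent.SignalizersComponents.StandardTrichotomy

/-!
# Groups of Lie type in odd characteristic have no component which is classical of characteristic two (helper298)

`Big2 S` : `S` is `L_n(q)` (`n ≥ 4`), `Sp_2k(q)` (`k ≥ 3`), `U_n(q)` (`n ≥ 6`), `Ω_2k^±(q)` (`k ≥ 4`), `q` even.

* `eo` : `X` exceptional of odd characteristic, `x ∈ Aut(X)`, `x * x = 1`, `A` a quasisimple normal subgroup of the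
  fixed points of `x`, `|Z(A)|` odd: `A / Z(A)` is not `Big2`;
* `odd_row` : the same for all `X` of Lie type of odd characteristic.
-/

set_option autoImplicit false
set_option linter.unusedSectionVars false

universe u v

namespace Cfsg.Agent.H298.EO

open Cfsg Subgroup Cfsg.Agent.OrdDiv Cfsg.Agent.H298.EOCard Cfsg.Agent.H298.EOAlm Cfsg.Agent.H340

/-- Classical groups of characteristic two of rank at least three. -/
def Big2 (S : Type*) [Group S] : Prop :=
  (∃ (F : Type) (_ : Field F) (_ : Fintype F) (_ : CharP F 2) (n : ℕ), 4 ≤ n ∧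
      Nonempty (S ≃* Matrix.ProjectiveSpecialLinearGroup (Fin n) F)) ∨
    (∃ (F : Type) (_ : Field F) (_ : Fintype F) (_ : CharP F 2) (k : ℕ), 3 ≤ k ∧ Nonempty (S ≃* PSp k F)) ∨
    (∃ (F : Type) (_ : Field F) (_ : Fintype F) (_ : CharP F 2) (n q : ℕ), 6 ≤ n ∧ Fintype.card F = q ^ 2 ∧
      Nonempty (S ≃* PSU n F q)) ∨
    (∃ (F : Type) (_ : Field F) (_ : Fintype F) (_ : CharP F 2) (k : ℕ), 4 ≤ k ∧
      (Nonempty (S ≃* POmega F (quadFormPlus k F)) ∨
        ∃ a b : F, (∀ z₁ z₂ : F, z₁ ^ 2 + a * z₁ * z₂ + b * z₂ ^ 2 = 0 → z₁ = 0 ∧ z₂ = 0) ∧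
          Nonempty (S ≃* POmega F (quadFormMinus (k - 1) F a b))))

theorem Big2.congr {S : Type*} [Group S] {T : Type*} [Group T] (e : S ≃* T) (h : Big2 S) : Big2 T := by
  rcases h with ⟨F, i1, i2, i3, n, hn, ⟨f⟩⟩ | ⟨F, i1, i2, i3, n, hn, ⟨f⟩⟩ | ⟨F, i1, i2, i3, n, q, hn, hF, ⟨f⟩⟩ |
    ⟨F, i1, i2, i3, n, hn, (⟨⟨f⟩⟩ | ⟨a, b, hab, ⟨f⟩⟩)⟩
  · exact Or.inl ⟨F, i1, i2, i3, n, hn, ⟨e.symm.trans f⟩⟩
  · exact Or.inr (Or.inl ⟨F, i1, i2, i3, n, hn, ⟨e.symm.trans f⟩⟩)
  · exact Or.inr (Or.inr (Or.inl ⟨F, i1, i2, i3, n, q, hn, hF, ⟨e.symm.trans f⟩⟩))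
  · exact Or.inr (Or.inr (Or.inr ⟨F, i1, i2, i3, n, hn, Or.inl ⟨e.symm.trans f⟩⟩))
  · exact Or.inr (Or.inr (Or.inr ⟨F, i1, i2, i3, n, hn, Or.inr ⟨a, b, hab, ⟨e.symm.trans f⟩⟩⟩))

theorem Big2.lieTwo {S : Type*} [Group S] (h : Big2 S) : IsLieTypeChar 2 S := by
  rcases h with ⟨F, i1, i2, i3, n, hn, f⟩ | ⟨F, i1, i2, i3, n, hn, f⟩ | ⟨F, i1, i2, i3, n, q, hn, hF, f⟩ |
    ⟨F, i1, i2, i3, n, hn, f | ⟨a, b, hab, f⟩⟩
  · exact Or.inl ⟨F, i1, i2, i3, n, by omega, by omega, f⟩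
  · exact Or.inr (Or.inl ⟨F, i1, i2, i3, n, by omega, by omega, f⟩)
  · exact Or.inr (Or.inr (Or.inl ⟨F, i1, i2, i3, n, q, hF, by omega, by omega, f⟩))
  · exact Or.inr (Or.inr (Or.inr (Or.inr (Or.inl ⟨F, i1, i2, i3, n, hn, f⟩))))
  · exact Or.inr (Or.inr (Or.inr (Or.inr (Or.inr (Or.inl ⟨F, i1, i2, i3, n, a, b, hn, hab, f⟩)))))

theorem exists_f (F : Type*) [Field F] [Fintype F] [CharP F 2] : ∃ f, 1 ≤ f ∧ Fintype.card F = 2 ^ f := by
  have : Fact (Nat.Prime 2) := ⟨Nat.prime_two⟩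
  obtain ⟨n, -, hn⟩ := FiniteField.card F 2
  exact ⟨n, n.pos, hn⟩

theorem exists_f_sq {q : ℕ} (F : Type*) [Field F] [Fintype F] [CharP F 2] (hq : Fintype.card F = q ^ 2) :
    ∃ f, 1 ≤ f ∧ q = 2 ^ f := by
  obtain ⟨n, hn, hc⟩ := exists_f F
  rw [hq] at hc
  obtain ⟨f, hf, rfl⟩ := (Nat.dvd_prime_pow Nat.prime_two).1 ((dvd_pow_self q two_ne_zero).trans (dvd_of_eq hc))
  refine ⟨f, ?_, rfl⟩
  by_contra h0
  obtain rfl : f = 0 := by omega
  have h1 : 2 ^ 1 ≤ 2 ^ n := Nat.pow_le_pow_right (by norm_num) hn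
  rw [← hc] at h1
  norm_num at h1

/-- **The rows** of the groups with a representation of degree at most `248`. -/
theorem row_of_rep {A : Type u} [Group A] [Finite A] (h : HasRep 248 A) (hs : IsSimpleGroup (A ⧸ center A))
    (hna : ¬ IsMulCommutative (A ⧸ center A)) (hZ : Odd (Nat.card (center A))) (hS : Big2 (A ⧸ center A)) :
    Row 0 (A ⧸ center A) := by
  have key : ∀ (T : Type) [Group T] (e : A ⧸ center A ≃* T),
      (IsSimpleGroup T → ¬ IsMulCommutative T → ∀ (π : A →* T), Function.Surjective π → π.ker ≤ center A →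
        Odd (Nat.card π.ker) → Row 0 T) → Row 0 (A ⧸ center A) := by
    intro T _ e hT
    have hk : (e.toMonoidHom.comp (QuotientGroup.mk' (center A))).ker = center A := by
      ext a
      rw [MonoidHom.mem_ker]
      constructor
      · intro h1
        have h2 : e (QuotientGroup.mk' (center A) a) = e 1 := by rw [map_one]; exact h1
        exact (QuotientGroup.eq_one_iff a).1 (e.injective h2)
      · intro h1
        have h2 : QuotientGroup.mk' (center A) a = 1 := (QuotientGroup.eq_one_iff a).2 h1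
        change e (QuotientGroup.mk' (center A) a) = 1
        rw [h2, map_one]
    refine (hT e.symm.isSimpleGroup ?_ (e.toMonoidHom.comp (QuotientGroup.mk' (center A)))
      (e.surjective.comp (QuotientGroup.mk'_surjective _)) (by rw [hk]) (by rw [hk]; exact hZ)).congr e.symm
    intro hc
    apply hna
    refine ⟨⟨fun a b => e.injective ?_⟩⟩
    rw [map_mul, map_mul]
    exact hc.is_comm.comm _ _
  rcases hS with ⟨F, i1, i2, i3, n, hn, ⟨e⟩⟩ | ⟨F, i1, i2, i3, n, hn, ⟨e⟩⟩ | ⟨F, i1, i2, i3, n, q, hn, hF, ⟨e⟩⟩ |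
    ⟨F, i1, i2, i3, n, hn, (⟨⟨e⟩⟩ | ⟨a, b, hab, ⟨e⟩⟩)⟩
  · obtain ⟨f, hf, hF⟩ := exists_f F
    exact key _ e fun h1 h2 π h3 h4 h5 => EODeg.psl h hf rfl hF hn h1 h2 π h3 h4 h5
  · obtain ⟨f, hf, hF⟩ := exists_f F
    exact key _ e fun h1 h2 π h3 h4 h5 => EODeg.psp h hf rfl hF hn h1 h2 π h3 h4 h5
  · obtain ⟨f, hf, hq⟩ := exists_f_sq F hF
    exact key _ e fun h1 h2 π h3 h4 h5 => EODeg.psu h hf hq hF hn h1 h2 π h3 h4 h5
  · obtain ⟨f, hf, hF⟩ := exists_f F
    exact key _ e fun h1 h2 π h3 h4 h5 => EODeg.oplus h hf rfl hF hn h1 h2 π h3 h4 h5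
  · obtain ⟨f, hf, hF⟩ := exists_f F
    exact key _ e fun h1 h2 π h3 h4 h5 => EODeg.ominus h hf rfl hF hn hab h1 h2 π h3 h4 h5

theorem not_comm {A : Type*} [Group A] (hA : IsQuasisimple A) : ¬ IsMulCommutative (A ⧸ center A) := by
  intro hcm
  have hs : IsSimpleGroup (A ⧸ center A) := hA.2
  have hperf : Group.IsPerfect (A ⧸ center A) := by
    have := hA.1
    exact Group.IsPerfect.ofSurjective (QuotientGroup.mk'_surjective (Subgroup.center A))
  have h3 : commutator (A ⧸ center A) = ⊥ := by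
    rw [commutator_def, Subgroup.commutator_eq_bot_iff_le_centralizer]
    intro a _
    rw [mem_centralizer_iff]
    intro b _
    exact hcm.is_comm.comm _ _
  have h4 : commutator (A ⧸ center A) = ⊤ := Group.IsPerfect.commutator_eq_top
  rw [h3] at h4
  exact bot_ne_top h4

theorem lie_of_exc {p : ℕ} {X : Type*} [Group X] (hX : IsExcChar p X) : IsLieTypeChar p X := by
  rcases hX with h | h | h
  · exact Or.inr (Or.inr (Or.inr (Or.inr (Or.inr (Or.inr (Or.inl h))))))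
  · exact Or.inr (Or.inr (Or.inr (Or.inr (Or.inr (Or.inr (Or.inr (Or.inl h)))))))
  · exact Or.inr (Or.inr (Or.inr (Or.inr (Or.inr (Or.inr (Or.inr (Or.inr (Or.inr (Or.inr h)))))))))

/-- **`X` exceptional of odd characteristic.** -/
theorem eo {p : ℕ} (hp2 : p ≠ 2) {X : Type u} [Group X] [Finite X] [IsSimpleGroup X] (hX : IsExcChar p X)
    (x : MulAut X) (hx : x * x = 1) (A : Subgroup ↥(fixedSubgroup x)) [A.Normal] (hA : IsQuasisimple ↥A)
    (hZ : Odd (Nat.card (center ↥A))) (hS : Big2 (↥A ⧸ center ↥A)) : False := by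
  have hrep : HasRep 248 ↥A := (hX.hasRep hp2).comp ((fixedSubgroup x).subtype.comp A.subtype)
    ((fixedSubgroup x).subtype_injective.comp A.subtype_injective)
  have hrow := row_of_rep hrep hA.2 (not_comm hA) hZ hS
  obtain ⟨p', hp', hp2', hal⟩ := exists_almost hp2 (lie_of_exc hX) x hx A hA
    (hrow.three.trans (Subgroup.card_quotient_dvd_card _))
  exact (hrow.kill p' hp' hp2' hal).2 rfl

/-! ### orders -/

theorem pow_dvd {a q c d n : ℕ} (h : d * c = n) (hn : q ^ a ∣ n) (hd : d.Coprime q) : q ^ a ∣ c := by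
  rw [← h] at hn
  exact (Nat.Coprime.pow_left a hd.symm).dvd_of_dvd_mul_left hn

theorem two_pow_dvd {q f k a : ℕ} (hq : q = 2 ^ f) (hf : 1 ≤ f) (hk : k ≤ a) : 2 ^ k ∣ q ^ a := by
  rw [hq, ← pow_mul]
  exact pow_dvd_pow 2 (hk.trans (Nat.le_mul_of_pos_left a hf))

theorem Big2.card {S : Type*} [Group S] (h : Big2 S) : 2 ^ 7 ∣ Nat.card S ∨ Nat.card S = 20160 := by
  rcases h with ⟨F, i1, i2, i3, n, hn, ⟨e⟩⟩ | ⟨F, i1, i2, i3, n, hn, ⟨e⟩⟩ | ⟨F, i1, i2, i3, n, q, hn, hF, ⟨e⟩⟩ |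
    ⟨F, i1, i2, i3, n, hn, (⟨⟨e⟩⟩ | ⟨a, b, hab, ⟨e⟩⟩)⟩
  · obtain ⟨f, hf, hF⟩ := exists_f F
    rw [Nat.card_congr e.toEquiv]
    have h1 := card_psl (F := F) (n := n) (by omega)
    by_cases hc : n = 4 ∧ f = 1
    · right
      obtain ⟨rfl, rfl⟩ := hc
      rw [pow_one] at hF
      refine eq_of h1 (by rw [hF]; decide +kernel) ?_
      rw [hF]; decide
    · left
      have hcop : (Nat.gcd n (Fintype.card F - 1) * (Fintype.card F - 1)).Coprime (Fintype.card F) := by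
        have h2 := cop_sub (q := Fintype.card F) (k := 1) Fintype.card_pos le_rfl
        rw [pow_one] at h2
        exact Nat.Coprime.mul_left (Nat.Coprime.coprime_dvd_left (Nat.gcd_dvd_right _ _) h2) h2
      have h3 := pow_dvd h1 (pow_dvd_glN n _) hcop
      refine dvd_trans ?_ h3
      rw [hF, ← pow_mul]
      apply pow_dvd_pow
      by_cases h4 : n = 4
      · subst h4
        have : 2 ≤ f := by
          by_contra h5
          exact hc ⟨rfl, by omega⟩
        omega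
      · have h5 : 10 ≤ n * (n - 1) / 2 := by
          rw [Nat.le_div_iff_mul_le (by norm_num)]
          obtain ⟨k, rfl⟩ : ∃ k, n = k + 5 := ⟨n - 5, by omega⟩
          have : k + 5 - 1 = k + 4 := by omega
          rw [this]
          nlinarith
        nlinarith
  · obtain ⟨f, hf, hF⟩ := exists_f F
    left
    rw [Nat.card_congr e.toEquiv]
    have h1 := card_psp (F := F) (m := n) (by omega)
    have hcop : (Nat.gcd 2 (Fintype.card F - 1)).Coprime (Fintype.card F) := by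
      have h2 := cop_sub (q := Fintype.card F) (k := 1) Fintype.card_pos le_rfl
      rw [pow_one] at h2
      exact Nat.Coprime.coprime_dvd_left (Nat.gcd_dvd_right _ _) h2
    exact (two_pow_dvd hF hf (by nlinarith)).trans (pow_dvd h1 (Dvd.intro _ rfl) hcop)
  · obtain ⟨f, hf, hq⟩ := exists_f_sq F hF
    left
    rw [Nat.card_congr e.toEquiv]
    have h1 := card_psu (F := F) (n := n) hF (by omega)
    have hcop : (Nat.gcd n (q + 1) * (q + 1)).Coprime q := by
      have h2 := cop_add (q := q) (k := 1) le_rfl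
      rw [pow_one] at h2
      exact Nat.Coprime.mul_left (Nat.Coprime.coprime_dvd_left (Nat.gcd_dvd_right _ _) h2) h2
    refine (two_pow_dvd hq hf ?_).trans (pow_dvd h1 (Dvd.intro _ rfl) hcop)
    rw [Nat.le_div_iff_mul_le (by norm_num)]
    obtain ⟨k, rfl⟩ : ∃ k, n = k + 6 := ⟨n - 6, by omega⟩
    have : k + 6 - 1 = k + 5 := by omega
    rw [this]
    nlinarith
  · obtain ⟨f, hf, hF⟩ := exists_f F
    left
    rw [Nat.card_congr e.toEquiv]
    have h1 := card_oplus (F := F) hn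
    refine (two_pow_dvd hF hf ?_).trans (pow_dvd h1 (Dvd.intro _ rfl)
      (Nat.Coprime.coprime_dvd_left (Nat.gcd_dvd_right _ _) (cop_sub Fintype.card_pos (by omega))))
    obtain ⟨k, rfl⟩ : ∃ k, n = k + 4 := ⟨n - 4, by omega⟩
    have : k + 4 - 1 = k + 3 := by omega
    rw [this]
    nlinarith
  · obtain ⟨f, hf, hF⟩ := exists_f F
    left
    rw [Nat.card_congr e.toEquiv]
    have h1 := card_ominus (F := F) hn hab
    refine (two_pow_dvd hF hf ?_).trans (pow_dvd h1 (Dvd.intro _ rfl)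
      (Nat.Coprime.coprime_dvd_left (Nat.gcd_dvd_right _ _) (cop_add (by omega))))
    obtain ⟨k, rfl⟩ : ∃ k, n = k + 4 := ⟨n - 4, by omega⟩
    have : k + 4 - 1 = k + 3 := by omega
    rw [this]
    nlinarith

/-- **`X` of Lie type of odd characteristic.** -/
theorem odd_row {p : ℕ} (hp : p.Prime) (hp2 : p ≠ 2) {X : Type u} [Group X] [Finite X] [IsSimpleGroup X]
    (hX : IsLieTypeChar p X) (x : MulAut X) (hx : x * x = 1) (A : Subgroup ↥(fixedSubgroup x)) [A.Normal]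
    (hA : IsQuasisimple ↥A) (hZ : Odd (Nat.card (center ↥A))) (hS : Big2 (↥A ⧸ center ↥A)) : False := by
  have hcase : IsClassicalChar p X ∨ IsExcChar p X := by
    rcases hX with h1 | h1 | h1 | h1 | h1 | h1 | h1 | h1 | h1 | h1 | h1
    · exact Or.inl (Or.inl h1)
    · exact Or.inl (Or.inr (Or.inl h1))
    · exact Or.inl (Or.inr (Or.inr (Or.inl h1)))
    · exact Or.inl (Or.inr (Or.inr (Or.inr (Or.inl h1))))
    · exact Or.inl (Or.inr (Or.inr (Or.inr (Or.inr (Or.inl h1)))))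
    · exact Or.inl (Or.inr (Or.inr (Or.inr (Or.inr (Or.inr h1)))))
    · exact Or.inr (Or.inl h1)
    · exact Or.inr (Or.inr (Or.inl h1))
    · exact absurd h1.1 hp2
    · exact absurd h1.1 hp2
    · exact Or.inr (Or.inr (Or.inr h1))
  rcases hcase with hX | hX
  · have hn : A.IsSubnormal := (inferInstance : A.Normal).isSubnormal
    have h1 : IsLieTypeChar p (↥A ⧸ center ↥A) :=
      CF.component (cf_lie_of_classical hp hp2 hX x hx) hn hA.2 hA.1.commutator_eq_top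
    have h3 := Cfsg.Agent.H284.SepOrd.sep OrdDiv.table hp Nat.prime_two hp2 h1 hS.lieTwo
    rcases hS.card with h4 | h4 <;> rcases h3 with h3 | h3 | h3 <;> (rw [h3] at h4; revert h4; decide)
  · exact eo hp2 hX x hx A hA hZ hS

/-- The standard subgroup as a normal subgroup of the fixed points. -/
theorem BB_normal {G : Type*} [Group G] [Finite G] {X A : Subgroup G} [X.Normal] (hA : IsStandardSubgroup A) {t : G}
    (ht : orderOf t = 2) (htA : t ∈ centralizer (A : Set G)) : (H284.FStd.BB X A t).Normal := by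
  have h1 := SignalizersComponents.StandardTrichotomy.centralizer_involution_le hA ht htA
  constructor
  rintro ⟨⟨a, haX⟩, haf⟩ ha ⟨⟨g, hgX⟩, hgf⟩
  have h2 : g ∈ centralizer ({t} : Set G) := by
    rw [mem_centralizer_singleton_iff]
    exact (H284.FStd.mem_fix.1 hgf).symm
  have h3 := h1 h2
  rw [mem_normalizer_iff] at h3
  exact (h3 a).1 ha

end Cfsg.Agent.H298.EO
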