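import Cfsg.Agent.H298.QTest
import Cfsg.Agent.H283.OddComp
import Cfsg.Agent.H340.ExcEmb
import Cfsg.Agent.FixBN.ReeSplit

/-!
# The almost simple group of a normal component, groups of Lie type of odd characteristic (helper298)

* `Almost p K` : some `Y` with `Inn(K) ≤ Y ≤ Aut(K)` has a split (B,N)-pair of characteristic `p`;
* `exists_almost` : `X` simple of Lie type of odd characteristic `p`, `x ∈ Aut(X)`, `x * x = 1`, `A` a quasisimple normal
  subgroup of the fixed points of `x`: `Almost p (A / Z(A))` (if `X` is a Ree group: if `3 ∣ |A|`).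
-/

set_option autoImplicit false
set_option linter.unusedSectionVars false

namespace Cfsg.Agent.H298.EOAlm

open Cfsg Subgroup Cfsg.Agent.FixBN Cfsg.Agent.BpGate Cfsg.Agent.H283.Desc

/-- some `Y` with `Inn(K) ≤ Y ≤ Aut(K)` has a split (B,N)-pair of characteristic `p` -/
def Almost (p : ℕ) (K : Type*) [Group K] : Prop :=
  ∃ Y : Subgroup (MulAut K), (MulAut.conj : K →* MulAut K).range ≤ Y ∧ HasSplit p Y

theorem Almost.congr {p : ℕ} {K : Type*} [Group K] {L : Type*} [Group L] (e : K ≃* L) (h : Almost p K) :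
    Almost p L := by
  obtain ⟨Y, hI, hY⟩ := h
  refine ⟨Y.map (MulAut.congr e).toMonoidHom, ?_, Transport.hasSplit_congr
    (Y.equivMapOfInjective (MulAut.congr e).toMonoidHom (MulAut.congr e).injective) hY⟩
  rintro _ ⟨l, rfl⟩
  refine ⟨MulAut.conj (e.symm l), hI ⟨_, rfl⟩, ?_⟩
  ext y
  change e (e.symm l * e.symm y * (e.symm l)⁻¹) = l * y * l⁻¹
  simp

theorem almost_of_good {K : Type*} [Group K] [Finite K] {p : ℕ} [hp : Fact p.Prime] (hp2 : p ≠ 2)
    (h : HasGoodSplit p K) (x : MulAut K) (hx : x ^ 2 = 1) (A : Subgroup ↥(fixedSubgroup x)) [A.Normal]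
    (hA : IsQuasisimple ↥A) : Almost p (↥A ⧸ center ↥A) := by
  obtain ⟨Pa, d, Bs, hD, a, c, hac⟩ := H283.DescInst.exists_dsys (r := 2) (fun e => hp2 e.symm) h.hasSplit x hx
  obtain ⟨P, U, -, hg⟩ := h
  have hxx : ∀ g, x (x g) = g := fun g => by
    have := congrArg (fun y : MulAut K => y g) hx
    simpa [pow_two] using this
  have hle : A ≤ Hp p ↥(fixedSubgroup x) := by
    have hperf : ⁅A, A⁆ = A := by
      have := hA.1
      exact Subgroup.commutator_eq_self (H := A)
    have hLp : ⁅A.map (fixedSubgroup x).subtype, A.map (fixedSubgroup x).subtype⁆ = A.map (fixedSubgroup x).subtype := by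
      rw [← Subgroup.map_commutator, hperf]
    have h1 := GoodSplit.out hp2 hg (x : K ≃* K) hxx (L := A.map (fixedSubgroup x).subtype) (map_subtype_le A) hLp
    have h2 : Lib.PComponents.pElem p (Reduce.fixSub (x : K ≃* K)) ≤ (Hp p ↥(fixedSubgroup x)).map (fixedSubgroup x).subtype := by
      unfold Lib.PComponents.pElem
      rw [closure_le]
      rintro y ⟨hy, n, hn⟩
      exact ⟨⟨y, hy⟩, H283.OddComp.mem_Hp (n := n) (Subtype.ext hn), rfl⟩
    intro a ha
    obtain ⟨b, hb, hba⟩ := h2 (h1 ⟨a, ha, rfl⟩)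
    have h3 : b = a := Subtype.ext hba
    rwa [← h3]
  exact ⟨H329.CompSplit.YY p A, H329.CompSplit.inn_le_YY (p := p) A hle, H329.CompSplit.hasSplit_YY hD hac A hA hle⟩

/-- Transport to an isomorphic group. -/
theorem almost_congr {X : Type*} [Group X] {K : Type*} [Group K] (e : X ≃* K) (x : MulAut X)
    (A : Subgroup ↥(fixedSubgroup x)) [hn : A.Normal] (hA : IsQuasisimple ↥A) {p : ℕ}
    (h : ∀ (A' : Subgroup ↥(fixedSubgroup (MulAut.congr e x))) [A'.Normal], Nat.card A' = Nat.card A → IsQuasisimple A' →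
      Almost p (↥A' ⧸ center ↥A')) : Almost p (↥A ⧸ center ↥A) := by
  let f := CpAut.fixEquiv e x
  let g : A ≃* A.map f.toMonoidHom := A.equivMapOfInjective f.toMonoidHom f.injective
  have hn' : (A.map f.toMonoidHom).Normal := hn.map _ f.surjective
  have h1 := h (A.map f.toMonoidHom) (Nat.card_congr g.symm.toEquiv) (SignalizersComponents.Components.isQuasisimple_of_mulEquiv g hA)
  obtain ⟨k⟩ := H283.OddComp.exists_quoEquiv g
  exact h1.congr k.symm

/-- **The almost simple group of a normal component.** -/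
theorem exists_almost {p : ℕ} (hp2 : p ≠ 2) {X : Type*} [Group X] [Finite X] [IsSimpleGroup X]
    (hX : IsLieTypeChar p X) (x : MulAut X) (hx : x * x = 1) (A : Subgroup ↥(fixedSubgroup x)) [A.Normal]
    (hA : IsQuasisimple ↥A) (h3 : 3 ∣ Nat.card ↥A) :
    ∃ p' : ℕ, p'.Prime ∧ p' ≠ 2 ∧ Almost p' (↥A ⧸ center ↥A) := by
  rcases exists_good_model hp2 hX with ⟨K, _, _, _, hpp, h, ⟨e⟩⟩ | h
  · refine ⟨p, hpp.out, hp2, almost_congr e x A hA fun A' _ _ hA' => almost_of_good hp2 h _ ?_ A' hA'⟩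
    rw [← map_pow, pow_two, hx, map_one]
  · have : Fact (Nat.Prime 3) := ⟨Nat.prime_three⟩
    have : Fact (Nat.Prime 2) := ⟨Nat.prime_two⟩
    have h1 : HasSplit 3 X := FixBN.ReeSplit.hasSplit_of_isoRee h
    obtain ⟨Y, hI, -, hY⟩ := H329.CompSplit.exists_almost (r := 2) (by norm_num) h1 x (by rw [pow_two, hx]) A hA h3
    exact ⟨3, Nat.prime_three, by norm_num, Y, hI, hY⟩

end Cfsg.Agent.H298.EOAlm
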