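import Cfsg.Agent.H298.EOSpec
import Cfsg.Agent.H912.BdOrth2
import Cfsg.Agent.H175.BdSp
import Cfsg.Agent.H175.BdSU
import Cfsg.Agent.H340.ExcEmb

/-!
# Classical groups of characteristic two with a projective representation of degree at most `248` (helper298)
-/

set_option autoImplicit false
set_option linter.unusedSectionVars false

universe u v

namespace Cfsg.Agent.H298.EODeg

open Cfsg Cfsg.Agent.OrdDiv Cfsg.Agent.H298.EOCard Cfsg.Agent.H340

/-- The extension `A` of `T` has a faithful representation of degree `≤ 248`. -/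
theorem exists_PR {A : Type u} [Group A] (h : HasRep 248 A) {T : Type v} [Group T] (π : A →* T)
    (hπ : Function.Surjective π) (hc : π.ker ≤ Subgroup.center A) (ho : Odd (Nat.card π.ker)) :
    ∃ (k : Type) (_ : Field k) (n : ℕ), n ≤ 248 ∧ (2 : k) ≠ 0 ∧ H912.Bd.PR k n 2 T := by
  obtain ⟨k, i1, V, i2, i3, i4, h2, hn, ρ, hρ⟩ := h
  refine ⟨k, i1, Module.finrank k V, hn, h2, ρ.range, inferInstance, π.comp (MonoidHom.ofInjective hρ).symm.toMonoidHom,
    (Units.map (LinearMap.toMatrixAlgEquiv (Module.finBasis k V)).toRingEquiv.toMonoidHom).comp ρ.range.subtype,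
    hπ.comp (MulEquiv.surjective _), ?_, ?_, ?_⟩
  · intro x hx y
    obtain ⟨a, rfl⟩ := (MonoidHom.ofInjective hρ).surjective x
    obtain ⟨b, rfl⟩ := (MonoidHom.ofInjective hρ).surjective y
    have h1 : π a = 1 := by
      have h3 : π ((MonoidHom.ofInjective hρ).symm (MonoidHom.ofInjective hρ a)) = 1 := hx
      rwa [MulEquiv.symm_apply_apply] at h3
    rw [← map_mul, ← map_mul, Subgroup.mem_center_iff.1 (hc h1) b]
  · have h1 : Nat.card (π.comp (MonoidHom.ofInjective hρ).symm.toMonoidHom).ker = Nat.card π.ker := by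
      have h3 : (π.comp (MonoidHom.ofInjective hρ).symm.toMonoidHom).ker =
          π.ker.map (MonoidHom.ofInjective hρ).toMonoidHom := by
        ext x
        constructor
        · intro hx
          exact ⟨(MonoidHom.ofInjective hρ).symm x, hx, MulEquiv.apply_symm_apply _ _⟩
        · rintro ⟨y, hy, rfl⟩
          change π ((MonoidHom.ofInjective hρ).symm (MonoidHom.ofInjective hρ y)) = 1
          rw [MulEquiv.symm_apply_apply]
          exact hy
      rw [h3]
      exact (Nat.card_congr (π.ker.equivMapOfInjective _ (MonoidHom.ofInjective hρ).injective).toEquiv).symm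
    rw [h1]
    exact (Nat.coprime_two_right).2 ho
  · intro x hx
    have h1 : (LinearMap.toMatrixAlgEquiv (Module.finBasis k V)) (x : (Module.End k V)ˣ).val = 1 :=
      congrArg Units.val hx
    have h3 : (x : (Module.End k V)ˣ).val = 1 := (LinearMap.toMatrixAlgEquiv (Module.finBasis k V)).injective (by
      rw [h1, map_one])
    have h4 : x = 1 := Subtype.ext (Units.ext h3)
    rw [h4]
    exact one_mem _

/-- a lower bound for the degree is at most `248` -/
theorem le_of_bd {A : Type u} [Group A] (h : HasRep 248 A) {T : Type v} [Group T] (π : A →* T)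
    (hπ : Function.Surjective π) (hc : π.ker ≤ Subgroup.center A) (ho : Odd (Nat.card π.ker)) {m : ℕ}
    (hb : ∀ (k : Type) [Field k], (2 : k) ≠ 0 → H912.Bd.Bd k 2 m T) : m ≤ 248 := by
  obtain ⟨k, _, n, hn, h2, hP⟩ := exists_PR h π hπ hc ho
  exact (hb k h2 n hP).trans hn

theorem charTwo {F : Type*} [Field F] [Fintype F] {q f : ℕ} (hF : Fintype.card F = q) (hq : q = 2 ^ f) :
    CharP F 2 := by
  have : Fact (Nat.Prime 2) := ⟨Nat.prime_two⟩
  obtain ⟨r, hr⟩ := CharP.exists F
  have hrp : r.Prime := (CharP.char_is_prime_or_zero F r).resolve_right (CharP.char_ne_zero_of_finite F r)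
  have := Fact.mk hrp
  obtain ⟨n, -, hn⟩ := FiniteField.card F r
  have h3 : r ∣ 2 ^ f := by rw [← hq, ← hF, hn]; exact dvd_pow_self r n.ne_zero
  rw [(Nat.prime_dvd_prime_iff_eq hrp Nat.prime_two).1 (hrp.dvd_of_dvd_pow h3)] at hr
  exact hr

theorem exp_le {f e : ℕ} (h : (2 ^ f) ^ e - 1 ≤ 248) : f * e ≤ 7 := by
  by_contra hc
  push Not at hc
  have h1 : 2 ^ 8 ≤ 2 ^ (f * e) := Nat.pow_le_pow_right (by norm_num) hc
  rw [pow_mul] at h1
  omega

section

variable {A : Type u} [Group A] (h : HasRep 248 A) {F : Type} [Field F] [Fintype F] {q f : ℕ} (hf : 1 ≤ f)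
  (hq : q = 2 ^ f)

include h hf hq

theorem psl (hF : Fintype.card F = q) {n : ℕ} (hn : 4 ≤ n)
    (hs : IsSimpleGroup (Matrix.ProjectiveSpecialLinearGroup (Fin n) F))
    (hna : ¬ IsMulCommutative (Matrix.ProjectiveSpecialLinearGroup (Fin n) F))
    (π : A →* Matrix.ProjectiveSpecialLinearGroup (Fin n) F)
    (hπ : Function.Surjective π) (hc : π.ker ≤ Subgroup.center A) (ho : Odd (Nat.card π.ker)) :
    Row 0 (Matrix.ProjectiveSpecialLinearGroup (Fin n) F) := by
  have hch := charTwo hF hq
  have h1 := le_of_bd h π hπ hc ho (fun k _ h2 => H912.Bd.bd_psl Nat.prime_two (by exact_mod_cast h2) (by omega) hch)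
  rw [hF, hq] at h1
  have h2 := exp_le h1
  have hf2 : f ≤ 2 := by
    by_contra hc
    push Not at hc
    nlinarith [show 3 ≤ n - 1 by omega]
  interval_cases f
  · rw [pow_one] at hq
    subst hq
    have h3 : n ≤ 8 := by omega
    interval_cases n
    · exact EORows.psl_4_2 hF hs hna
    · exact EORows.psl_5_2 hF hs hna
    · exact EORows.psl_6_2 hF hs hna
    · exact EORows.psl_7_2 hF hs hna
    · exact EORows.psl_8_2 hF hs hna
  · norm_num at hq
    subst hq
    have h3 : n ≤ 4 := by omega
    obtain rfl : n = 4 := by omega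
    exact EORows.psl_4_4 hF hs hna

theorem psp (hF : Fintype.card F = q) {m : ℕ} (hm : 3 ≤ m)
    (hs : IsSimpleGroup (PSp m F)) (hna : ¬ IsMulCommutative (PSp m F)) (π : A →* PSp m F)
    (hπ : Function.Surjective π) (hc : π.ker ≤ Subgroup.center A) (ho : Odd (Nat.card π.ker)) :
    Row 0 (PSp m F) := by
  have hch := charTwo hF hq
  have h1 := le_of_bd h π hπ hc ho (fun k _ h2 => H175.BdSp.bd_psp_even hF (by omega) h2 (MulEquiv.refl _))
  rw [hq] at h1
  have h2 := exp_le h1
  have hf2 : f ≤ 2 := by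
    by_contra hc
    push Not at hc
    nlinarith
  interval_cases f
  · rw [pow_one] at hq
    subst hq
    have h3 : m ≤ 7 := by omega
    interval_cases m
    · exact EOSpec.psp_three hF hs hna
    · exact EORows.psp_4_2 hF hs hna
    · exact EORows.psp_5_2 hF hs hna
    · exact EORows.psp_6_2 hF hs hna
    · exact EORows.psp_7_2 hF hs hna
  · norm_num at hq
    subst hq
    obtain rfl : m = 3 := by omega
    exact EORows.psp_3_4 hF hs hna

theorem psu (hF : Fintype.card F = q ^ 2) {n : ℕ} (hn : 6 ≤ n)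
    (hs : IsSimpleGroup (PSU n F q)) (hna : ¬ IsMulCommutative (PSU n F q)) (π : A →* PSU n F q)
    (hπ : Function.Surjective π) (hc : π.ker ≤ Subgroup.center A) (ho : Odd (Nat.card π.ker)) :
    Row 0 (PSU n F q) := by
  have hch : CharP F 2 := charTwo (q := q ^ 2) (f := f * 2) hF (by rw [hq, pow_mul])
  have h1 := le_of_bd h π hπ hc ho (fun k _ h2 => H175.BdSU.bd_psu Nat.prime_two hF (by omega) (by exact_mod_cast h2)
    (MulEquiv.refl _))
  have hf1 : f = 1 := by
    by_contra hc
    have h3 : 4 ≤ q := by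
      rw [hq]
      calc 4 = 2 ^ 2 := rfl
        _ ≤ 2 ^ f := Nat.pow_le_pow_right (by norm_num) (by omega)
    have h4 : 4 ^ 4 ≤ q ^ (n - 2) := (Nat.pow_le_pow_left h3 4).trans (Nat.pow_le_pow_right (by omega) (by omega))
    have h5 : 1 * 4 ^ 4 ≤ (q - 1) * q ^ (n - 2) := Nat.mul_le_mul (by omega) h4
    omega
  subst hf1
  rw [pow_one] at hq
  subst hq
  have h3 : n ≤ 9 := by
    by_contra hc
    push Not at hc
    have h4 : 2 ^ 8 ≤ 2 ^ (n - 2) := Nat.pow_le_pow_right (by norm_num) (by omega)
    omega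
  interval_cases n
  · exact EOSpec.psu_six hF hs hna
  · exact EORows.psu_7_2 hF hs hna
  · exact EORows.psu_8_2 hF hs hna
  · exact EORows.psu_9_2 hF hs hna

theorem oplus (hF : Fintype.card F = q) {m : ℕ} (hm : 4 ≤ m)
    (hs : IsSimpleGroup (POmega F (quadFormPlus m F))) (hna : ¬ IsMulCommutative (POmega F (quadFormPlus m F)))
    (π : A →* POmega F (quadFormPlus m F))
    (hπ : Function.Surjective π) (hc : π.ker ≤ Subgroup.center A) (ho : Odd (Nat.card π.ker)) :
    Row 0 (POmega F (quadFormPlus m F)) := by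
  have hch := charTwo hF hq
  have h1 := le_of_bd h π hπ hc ho (fun k _ h2 => H912.Bd.bd_pomega_plus_sl Nat.prime_two (by exact_mod_cast h2) hch
    (by omega))
  rw [hF, hq] at h1
  have h2 := exp_le h1
  have hf2 : f ≤ 2 := by
    by_contra hc
    push Not at hc
    nlinarith [show 3 ≤ m - 1 by omega]
  interval_cases f
  · rw [pow_one] at hq
    subst hq
    have h3 : m ≤ 8 := by omega
    interval_cases m
    · exact EOSpec.oplus_four hF hs hna
    · exact EORows.oplus_5_2 hF hs hna
    · exact EORows.oplus_6_2 hF hs hna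
    · exact EORows.oplus_7_2 hF hs hna
    · exact EORows.oplus_8_2 hF hs hna
  · norm_num at hq
    subst hq
    obtain rfl : m = 4 := by omega
    exact EORows.oplus_4_4 hF hs hna

theorem ominus (hF : Fintype.card F = q) {m : ℕ} (hm : 4 ≤ m) {α β : F}
    (hab : ∀ z₁ z₂ : F, z₁ ^ 2 + α * z₁ * z₂ + β * z₂ ^ 2 = 0 → z₁ = 0 ∧ z₂ = 0)
    (hs : IsSimpleGroup (POmega F (quadFormMinus (m - 1) F α β)))
    (hna : ¬ IsMulCommutative (POmega F (quadFormMinus (m - 1) F α β)))
    (π : A →* POmega F (quadFormMinus (m - 1) F α β))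
    (hπ : Function.Surjective π) (hc : π.ker ≤ Subgroup.center A) (ho : Odd (Nat.card π.ker)) :
    Row 0 (POmega F (quadFormMinus (m - 1) F α β)) := by
  have hch := charTwo hF hq
  have h1 := le_of_bd h π hπ hc ho (fun k _ h2 => H912.Bd.bd_pomega_minus_sl Nat.prime_two (by exact_mod_cast h2) hch
    (by omega) α β)
  have h1' := le_of_bd h π hπ hc ho (fun k _ h2 => H912.Bd.bd_pomega_minus_cube Nat.prime_two (by exact_mod_cast h2) hch
    (by omega) α β)
  rw [hF, hq] at h1 h1'
  have h2 := exp_le h1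
  have h2' := exp_le h1'
  have hf2 : f ≤ 2 := by omega
  interval_cases f
  · rw [pow_one] at hq
    subst hq
    have h3 : m ≤ 9 := by omega
    interval_cases m
    · exact EORows.ominus_4_2 hF hab hs hna
    · exact EORows.ominus_5_2 hF hab hs hna
    · exact EORows.ominus_6_2 hF hab hs hna
    · exact EORows.ominus_7_2 hF hab hs hna
    · exact EORows.ominus_8_2 hF hab hs hna
    · exact EORows.ominus_9_2 hF hab hs hna
  · norm_num at hq
    subst hq
    have h3 : m ≤ 5 := by omega
    interval_cases m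
    · exact EORows.ominus_4_4 hF hab hs hna
    · exact EORows.ominus_5_4 hF hab hs hna

end

end Cfsg.Agent.H298.EODeg
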