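import Cfsg.Agent.H298.EOFiveRows
import Cfsg.Agent.H298.EO
import Cfsg.Agent.H912.MultChar
import Cfsg.Agent.H203.BdSL2
import Cfsg.Agent.H203.LSG2
import Cfsg.Agent.H203.LSF4odd
import Cfsg.Agent.H203.LSE6
import Cfsg.Agent.H203.LSE7
import Cfsg.Agent.H203.LSE8
import Cfsg.Agent.H203.LSTwE6
import Cfsg.Agent.H203.LSTwD4
import Cfsg.Agent.S0253

/-!
# Components of Lie type of characteristic five in exceptional groups of odd characteristic `p ≠ 5` (helper298)

`eo5` : `X` exceptional of characteristic `p ≠ 2, 5`, `x ∈ Aut(X)`, `x * x = 1`, `A` a quasisimple normal subgroup of the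
fixed points of `x`, `A / Z(A)` of Lie type of characteristic `5`: then `A / Z(A) ≅ A_5`.
-/

set_option autoImplicit false
set_option linter.unusedSectionVars false

universe u v

namespace Cfsg.Agent.H298.EOFive

open Cfsg Subgroup Cfsg.Agent.OrdDiv Cfsg.Agent.H298.EOAlm Cfsg.Agent.H340 Cfsg.Agent.H298.EOFiveArith
  Cfsg.Agent.H203.LS Cfsg.Agent.FixBN

/-- faithful representation of degree at most `248` over a finite field of characteristic `p` -/
def Emb (p : ℕ) (A : Type*) [Group A] : Prop :=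
  ∃ (F : Type) (_ : Field F) (_ : Finite F) (_ : CharP F p) (n : ℕ), n ≤ 248 ∧
    ∃ ρ : A →* Matrix.GeneralLinearGroup (Fin n) F, Function.Injective ρ

theorem Emb.comp {p : ℕ} {A : Type*} [Group A] {B : Type*} [Group B] (h : Emb p A) (f : B →* A)
    (hf : Function.Injective f) : Emb p B := by
  obtain ⟨F, i1, i2, i3, n, hn, ρ, hρ⟩ := h
  exact ⟨F, i1, i2, i3, n, hn, ρ.comp f, hρ.comp hf⟩

theorem emb {p : ℕ} {X : Type*} [Group X] (hX : IsExcChar p X) : Emb p X := by
  have key : ∀ (D : Lie.ChevalleyDatum) (F : Type) [Field F] [Finite F] (_ : CharP F p)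
      (S : Subgroup (Matrix.GeneralLinearGroup D.Idx F)), D.rank + D.nroots ≤ 248 → Nonempty (X ≃* S) → Emb p X := by
    intro D F _ _ hF S hD ⟨e⟩
    let c : D.Idx ≃ Fin (Fintype.card D.Idx) := Fintype.equivFin D.Idx
    have hc : Fintype.card D.Idx ≤ 248 := by
      rw [Fintype.card_sum, Fintype.card_fin, Fintype.card_fin]
      exact hD
    let r : Matrix.GeneralLinearGroup D.Idx F ≃* Matrix.GeneralLinearGroup (Fin (Fintype.card D.Idx)) F :=
      Units.mapEquiv (Matrix.reindexRingEquiv F c).toMulEquiv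
    exact ⟨F, inferInstance, inferInstance, hF, _, hc, (r.toMonoidHom.comp S.subtype).comp e.toMonoidHom,
      (r.injective.comp S.subtype_injective).comp e.injective⟩
  rcases hX with ⟨F, _, _, hc, h⟩ | ⟨K, _, _, hc, q, -, h⟩ | ⟨rfl, K, _, _, m, -, hcard, h⟩
  · rcases h with ⟨-, h⟩ | h | h | h | h
    · exact key Lie.chevG2 F hc _ (by decide) h
    · exact key Lie.chevF4 F hc _ (by decide) h
    · exact key Lie.chevE6 F hc _ (by decide) h
    · exact key Lie.chevE7 F hc _ (by decide) h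
    · exact key Lie.chevE8 F hc _ (by decide) h
  · rcases h with ⟨-, h⟩ | ⟨-, h⟩
    · exact key Lie.chevE6 K hc _ (by decide) h
    · exact key Lie.chevD4 K hc _ (by decide) h
  · have hc : CharP K 3 := by
      obtain ⟨r, hr⟩ := CharP.exists K
      have hrp : r.Prime := (CharP.char_is_prime_or_zero K r).resolve_right (CharP.char_ne_zero_of_finite K r)
      have := Fact.mk hrp
      obtain ⟨n, -, hn⟩ := FiniteField.card K r
      have h3 : r ∣ 3 ^ (2 * m + 1) := by rw [← hcard, hn]; exact dvd_pow_self r n.ne_zero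
      rw [(Nat.prime_dvd_prime_iff_eq hrp Nat.prime_three).1 (hrp.dvd_of_dvd_pow h3)] at hr
      exact hr
    exact key Lie.chevG2 K hc _ (by decide) h

theorem five_ne {p : ℕ} (hp5 : p ≠ 5) (F : Type*) [Field F] [CharP F p] : ((5 : ℕ) : F) ≠ 0 := by
  intro h
  rw [CharP.cast_eq_zero_iff F p] at h
  rcases (Nat.dvd_prime (by norm_num : Nat.Prime 5)).1 h with h | h
  · subst h
    exact CharP.false_of_nontrivial_of_char_one (R := F)
  · exact hp5 h

section bounds

variable {A : Type u} [Group A] [Finite A] {p : ℕ} (hp5 : p ≠ 5) (h : Emb p A) (hA : commutator A = ⊤)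
  {T : Type} [Group T] (π : A →* T) (hπ : Function.Surjective π) (hc : π.ker ≤ Subgroup.center A)

include hp5 h hA hπ hc

theorem le_of_bd (ho : (Nat.card π.ker).Coprime 5) {m : ℕ}
    (hb : ∀ (k : Type) [Field k], ((5 : ℕ) : k) ≠ 0 → H912.Bd.Bd k 5 m T) : m ≤ 248 := by
  obtain ⟨F, i1, i2, i3, n, hn, ρ, hρ⟩ := h
  have h5 := five_ne hp5 F
  refine (hb F h5 n ⟨ρ.range, inferInstance, π.comp (MonoidHom.ofInjective hρ).symm.toMonoidHom, ρ.range.subtype,
    hπ.comp (MulEquiv.surjective _), ?_, ?_, ?_⟩).trans hn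
  · intro x hx y
    obtain ⟨a, rfl⟩ := (MonoidHom.ofInjective hρ).surjective x
    obtain ⟨b, rfl⟩ := (MonoidHom.ofInjective hρ).surjective y
    have h1 : π a = 1 := by
      have h3 : π ((MonoidHom.ofInjective hρ).symm (MonoidHom.ofInjective hρ a)) = 1 := hx
      rwa [MulEquiv.symm_apply_apply] at h3
    rw [← map_mul, ← map_mul, Subgroup.mem_center_iff.1 (hc h1) b]
  · have h1 : Nat.card (π.comp (MonoidHom.ofInjective hρ).symm.toMonoidHom).ker = Nat.card π.ker := by
      have h3 : (π.comp (MonoidHom.ofInjective hρ).symm.toMonoidHom).ker =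
          π.ker.map (MonoidHom.ofInjective hρ).toMonoidHom := by
        ext x
        constructor
        · intro hx
          exact ⟨(MonoidHom.ofInjective hρ).symm x, hx, MulEquiv.apply_symm_apply _ _⟩
        · rintro ⟨y, hy, rfl⟩
          change π ((MonoidHom.ofInjective hρ).symm (MonoidHom.ofInjective hρ y)) = 1
          rw [MulEquiv.symm_apply_apply]
          exact hy
      rw [h3]
      exact (Nat.card_congr (π.ker.equivMapOfInjective _ (MonoidHom.ofInjective hρ).injective).toEquiv).symm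
    rw [h1]
    exact ho
  · intro x hx
    have h4 : x = 1 := Subtype.ext (show (x : Matrix.GeneralLinearGroup (Fin n) F) = 1 from hx)
    rw [h4]
    exact one_mem _

theorem le_of_ls (hne : Nontrivial A) {m : ℕ} (hb : LS.{0, u, 0} 5 m T) : m ≤ 248 := by
  obtain ⟨F, i1, i2, i3, n, hn, ρ, hρ⟩ := h
  refine (hb A π hπ hc hA F (five_ne hp5 F) n ρ ?_).trans hn
  intro h0
  obtain ⟨a, ha⟩ := exists_ne (1 : A)
  apply ha
  apply hρ
  rw [h0]
  rfl

end bounds

theorem exists_f (F : Type*) [Field F] [Fintype F] [CharP F 5] : ∃ f, 1 ≤ f ∧ Fintype.card F = 5 ^ f := by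
  have : Fact (Nat.Prime 5) := ⟨by norm_num⟩
  obtain ⟨n, -, hn⟩ := FiniteField.card F 5
  exact ⟨n, n.pos, hn⟩

theorem exists_f_pow {q e : ℕ} (he : e ≠ 0) (F : Type*) [Field F] [Fintype F] [CharP F 5]
    (hq : Fintype.card F = q ^ e) : ∃ f, 1 ≤ f ∧ q = 5 ^ f := by
  obtain ⟨n, hn, hc⟩ := exists_f F
  rw [hq] at hc
  obtain ⟨f, hf, rfl⟩ := (Nat.dvd_prime_pow (by norm_num : Nat.Prime 5)).1 ((dvd_pow_self q he).trans (dvd_of_eq hc))
  refine ⟨f, ?_, rfl⟩
  by_contra h0
  obtain rfl : f = 0 := by omega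
  have h1 : 5 ^ 1 ≤ 5 ^ n := Nat.pow_le_pow_right (by norm_num) hn
  rw [← hc] at h1
  norm_num at h1

theorem exp_le {f e : ℕ} (h : (5 ^ f) ^ e ≤ 624) : f * e ≤ 3 := by
  by_contra hc
  push Not at hc
  have h1 : 5 ^ 4 ≤ 5 ^ (f * e) := Nat.pow_le_pow_right (by norm_num) hc
  rw [pow_mul] at h1
  omega

theorem five_le {f : ℕ} (hf : 1 ≤ f) : 5 ≤ 5 ^ f := by
  calc 5 = 5 ^ 1 := by norm_num
    _ ≤ 5 ^ f := Nat.pow_le_pow_right (by norm_num) hf

/-- a big bound -/
theorem big {q e : ℕ} (hq : 5 ≤ q) (he : 3 ≤ e) : ¬ (q - 1) * q ^ e ≤ 248 := by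
  intro h
  have h1 : 5 ^ 3 ≤ q ^ e := (Nat.pow_le_pow_left hq 3).trans (Nat.pow_le_pow_right (by omega) he)
  have h2 : 4 * 5 ^ 3 ≤ (q - 1) * q ^ e := Nat.mul_le_mul (by omega) h1
  omega

/-- **The rows.** -/
theorem row_of_emb {A : Type u} [Group A] [Finite A] {p : ℕ} (hp5 : p ≠ 5) (h : Emb p A) (hA : commutator A = ⊤)
    (hs : IsSimpleGroup (A ⧸ center A)) (hna : ¬ IsMulCommutative (A ⧸ center A))
    (h5 : IsLieTypeChar 5 (A ⧸ center A)) :
    Row (A ⧸ center A) ∨ Nonempty (A ⧸ center A ≃* ↥(alternatingGroup (Fin 5))) := by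
  have hpr : Nat.Prime 5 := by norm_num
  have : Fact (Nat.Prime 5) := ⟨hpr⟩
  have hcop : (Nat.card (center A)).Coprime 5 := by
    have h1 := H912.Bd.noR_of_five_le.{u} hpr le_rfl h5 A hA (QuotientGroup.mk' (center A))
      (QuotientGroup.mk'_surjective _) (by rw [QuotientGroup.ker_mk'])
    rwa [QuotientGroup.ker_mk'] at h1
  have hne : Nontrivial A := by
    obtain ⟨a, ha⟩ := exists_ne (1 : A ⧸ center A)
    obtain ⟨b, rfl⟩ := QuotientGroup.mk'_surjective (center A) a
    exact ⟨b, 1, fun h => ha (by rw [h, map_one])⟩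
  have key : ∀ {T : Type} [Group T] (e : A ⧸ center A ≃* T),
      (IsSimpleGroup T → ¬ IsMulCommutative T → ∀ (π : A →* T), Function.Surjective π → π.ker ≤ center A →
        (Nat.card π.ker).Coprime 5 → Row T ∨ Nonempty (T ≃* ↥(alternatingGroup (Fin 5)))) →
          Row (A ⧸ center A) ∨ Nonempty (A ⧸ center A ≃* ↥(alternatingGroup (Fin 5))) := by
    intro T _ e hT
    have hk : (e.toMonoidHom.comp (QuotientGroup.mk' (center A))).ker = center A := by
      ext a
      rw [MonoidHom.mem_ker]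
      constructor
      · intro h1
        have h2 : e (QuotientGroup.mk' (center A) a) = e 1 := by rw [map_one]; exact h1
        exact (QuotientGroup.eq_one_iff a).1 (e.injective h2)
      · intro h1
        have h2 : QuotientGroup.mk' (center A) a = 1 := (QuotientGroup.eq_one_iff a).2 h1
        change e (QuotientGroup.mk' (center A) a) = 1
        rw [h2, map_one]
    have hTs : IsSimpleGroup T := e.symm.isSimpleGroup
    have hTc : ¬ IsMulCommutative T := by
      intro hc
      apply hna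
      refine ⟨⟨fun a b => e.injective ?_⟩⟩
      rw [map_mul, map_mul]
      exact hc.is_comm.comm _ _
    rcases hT hTs hTc (e.toMonoidHom.comp (QuotientGroup.mk' (center A)))
      (e.surjective.comp (QuotientGroup.mk'_surjective _)) (by rw [hk]) (by rw [hk]; exact hcop) with h1 | ⟨⟨f⟩⟩
    · exact Or.inl (h1.congr e.symm)
    · exact Or.inr ⟨e.trans f⟩
  have ls : ∀ {T : Type} [Group T] (e : A ⧸ center A ≃* T) {m : ℕ}, LS.{0, u, 0} 5 m T → m ≤ 248 := by
    intro T _ e m hm
    refine le_of_ls hp5 h hA (e.toMonoidHom.comp (QuotientGroup.mk' (center A)))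
      (e.surjective.comp (QuotientGroup.mk'_surjective _)) ?_ hne hm
    intro a ha
    have h2 : e (QuotientGroup.mk' (center A) a) = e 1 := by rw [map_one]; exact ha
    exact (QuotientGroup.eq_one_iff a).1 (e.injective h2)
  rcases h5 with h1 | h1 | h1 | h1 | h1 | h1 | h1 | h1 | h1 | h1 | h1
  · -- PSL
    obtain ⟨F, _, _, _, n, hn, -, ⟨e⟩⟩ := h1
    obtain ⟨f, hf, hF⟩ := exists_f F
    refine key e fun hs hna π hπ hc ho => ?_
    rcases hn.lt_or_eq with hn | rfl
    · left
      have h2 := le_of_bd hp5 h hA π hπ hc ho (fun k _ hk => H912.Bd.bd_psl hpr hk hn inferInstance)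
      rw [hF] at h2
      have h3 := exp_le (f := f) (e := n - 1) (by omega)
      have h4 : f = 1 := by
        by_contra h4
        have : 2 * (n - 1) ≤ f * (n - 1) := Nat.mul_le_mul_right _ (by omega)
        omega
      subst h4
      rw [pow_one] at hF
      have h5 : n ≤ 4 := by omega
      interval_cases n
      · exact EOFiveRows.psl_3_5 hF hs hna
      · exact EOFiveRows.psl_4_5 hF hs hna
    · have h2 := le_of_bd hp5 h hA π hπ hc ho (fun k _ hk =>
        H203.BdSL2.bd_of_sl2 hpr hF hk (QuotientGroup.mk' _) (by rw [QuotientGroup.ker_mk']))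
      have h3 : f ≤ 3 := by
        by_contra h3
        push Not at h3
        have h4 : 5 ^ 4 ≤ 5 ^ f := Nat.pow_le_pow_right (by norm_num) h3
        have h5 : (5 ^ f - 1) / 2 ≤ (5 ^ f - 1) / Nat.gcd 2 (5 ^ f - 1) :=
          Nat.div_le_div_left (Nat.le_of_dvd (by norm_num) (Nat.gcd_dvd_left _ _)) (Nat.gcd_pos_of_pos_left _ (by norm_num))
        omega
      interval_cases f
      · right
        exact S0253.result (F := F) (by rw [hF]; norm_num)
      · left
        exact EOFiveRows.psl_2_25 (by rw [hF]; norm_num) hs hna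
      · left
        exact EOFiveRows.psl_2_125 (by rw [hF]; norm_num) hs hna
  · -- PSp
    obtain ⟨F, _, _, _, m, hm, -, ⟨e⟩⟩ := h1
    obtain ⟨f, hf, hF⟩ := exists_f F
    refine key e fun hs hna π hπ hc ho => Or.inl ?_
    have h2 := le_of_bd hp5 h hA π hπ hc ho (fun k _ hk => H175.BdSp.bd_psp hpr hF (by omega) hk (MulEquiv.refl _))
    have h3 := exp_le (f := f) (e := m) (by omega)
    have h4 : f = 1 := by
      by_contra h4
      have : 2 * m ≤ f * m := Nat.mul_le_mul_right _ (by omega)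
      omega
    subst h4
    rw [pow_one] at hF
    have h5 : m ≤ 3 := by omega
    interval_cases m
    · exact EOFiveRows.psp_2_5 hF hs hna
    · exact EOFiveRows.psp_3_5 hF hs hna
  · -- PSU
    obtain ⟨F, _, _, _, n, q, hq, hn, -, ⟨e⟩⟩ := h1
    obtain ⟨f, hf, hqf⟩ := exists_f_pow two_ne_zero F hq
    refine key e fun hs hna π hπ hc ho => Or.inl ?_
    have h2 := le_of_bd hp5 h hA π hπ hc ho (fun k _ hk => H175.BdSU.bd_psu hpr hq hn hk (MulEquiv.refl _))
    have h4 : f = 1 := by
      by_contra h4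
      have h5 : 25 ≤ q := by
        rw [hqf]
        calc 25 = 5 ^ 2 := by norm_num
          _ ≤ 5 ^ f := Nat.pow_le_pow_right (by norm_num) (by omega)
      have h6 : 25 ^ 1 ≤ q ^ (n - 2) := (Nat.pow_le_pow_left h5 1).trans (Nat.pow_le_pow_right (by omega) (by omega))
      have h7 : 24 * 25 ^ 1 ≤ (q - 1) * q ^ (n - 2) := Nat.mul_le_mul (by omega) h6
      omega
    subst h4
    rw [pow_one] at hqf
    subst hqf
    have h5 : n ≤ 4 := by
      by_contra h5
      push Not at h5
      exact big le_rfl (show 3 ≤ n - 2 by omega) h2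
    interval_cases n
    · exact EOFiveRows.psu_3_5 hq hs hna
    · exact EOFiveRows.psu_4_5 hq hs hna
  · -- odd orthogonal
    obtain ⟨F, _, _, _, m, hm, -, ⟨e⟩⟩ := h1
    obtain ⟨f, hf, hF⟩ := exists_f F
    refine key e fun hs hna π hπ hc ho => Or.inl ?_
    have h2 := le_of_bd hp5 h hA π hπ hc ho (fun k _ hk => H912.Bd.bd_pomega_odd_sl hpr hk inferInstance hm)
    rw [hF] at h2
    have h3 := exp_le (f := f) (e := m - 1) (by omega)
    have h4 : f = 1 := by
      by_contra h4
      have : 2 * (m - 1) ≤ f * (m - 1) := Nat.mul_le_mul_right _ (by omega)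
      omega
    subst h4
    rw [pow_one] at hF
    have h5 : m ≤ 4 := by omega
    interval_cases m
    · exact EOFiveRows.oodd_3_5 hF hs hna
    · exact EOFiveRows.oodd_4_5 hF hs hna
  · -- plus
    obtain ⟨F, _, _, _, m, hm, ⟨e⟩⟩ := h1
    obtain ⟨f, hf, hF⟩ := exists_f F
    refine key e fun hs hna π hπ hc ho => Or.inl ?_
    have h2 := le_of_bd hp5 h hA π hπ hc ho (fun k _ hk => H912.Bd.bd_pomega_plus_sl hpr hk inferInstance (by omega))
    rw [hF] at h2
    have h3 := exp_le (f := f) (e := m - 1) (by omega)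
    have h4 : f = 1 := by
      by_contra h4
      have : 2 * (m - 1) ≤ f * (m - 1) := Nat.mul_le_mul_right _ (by omega)
      omega
    subst h4
    rw [pow_one] at hF
    obtain rfl : m = 4 := by omega
    exact EOFiveRows.oplus_4_5 hF hs hna
  · -- minus
    obtain ⟨F, _, _, _, m, a, b, hm, hab, ⟨e⟩⟩ := h1
    obtain ⟨f, hf, hF⟩ := exists_f F
    refine key e fun hs hna π hπ hc ho => Or.inl ?_
    have h2 := le_of_bd hp5 h hA π hπ hc ho (fun k _ hk => H912.Bd.bd_pomega_minus_sl hpr hk inferInstance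
      (show 3 ≤ m - 1 by omega) a b)
    rw [hF] at h2
    have h3 := exp_le (f := f) (e := m - 1 - 1) (by omega)
    have h4 : f = 1 := by
      by_contra h4
      have : 2 * (m - 1 - 1) ≤ f * (m - 1 - 1) := Nat.mul_le_mul_right _ (by omega)
      omega
    subst h4
    rw [pow_one] at hF
    have h5 : m ≤ 5 := by omega
    interval_cases m
    · exact EOFiveRows.ominus_4_5 hF hab hs hna
    · exact EOFiveRows.ominus_5_5 hF hab hs hna
  · -- exceptional
    obtain ⟨F, _, _, _, h1⟩ := h1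
    obtain ⟨f, hf, hF⟩ := exists_f F
    have hF' : Nat.card F = 5 ^ f := by rw [Nat.card_eq_fintype_card, hF]
    have h5q := five_le hf
    have h2F : (2 : F) ≠ 0 := by
      intro h2
      have h3 : ((2 : ℕ) : F) = 0 := by exact_mod_cast h2
      rw [CharP.cast_eq_zero_iff F 5] at h3
      revert h3; decide
    rcases h1 with ⟨-, ⟨e⟩⟩ | ⟨⟨e⟩⟩ | ⟨⟨e⟩⟩ | ⟨⟨e⟩⟩ | ⟨⟨e⟩⟩
    · have h2 := ls e (G2.ls (r := 5) F (by omega) (by omega))
      rw [hF'] at h2
      have h4 : f = 1 := by
        by_contra h4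
        have h5 : 25 ≤ 5 ^ f := by
          calc 25 = 5 ^ 2 := by norm_num
            _ ≤ 5 ^ f := Nat.pow_le_pow_right (by norm_num) (by omega)
        have h7 : 24 * 25 ≤ (5 ^ f - 1) * 5 ^ f := Nat.mul_le_mul (by omega) h5
        omega
      subst h4
      rw [pow_one] at hF
      exact key e fun hs hna π hπ hc ho => Or.inl (EOFiveRows.g2_5 hF hs hna)
    · have h2 := ls e (F4odd.ls_odd (r := 5) F h2F)
      rw [hF'] at h2
      exact absurd h2 (big h5q (by norm_num))
    · have h2 := ls e (E6.ls (r := 5) F)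
      rw [hF'] at h2
      exact absurd h2 (big h5q (by norm_num))
    · have h2 := ls e (E7.ls (r := 5) F)
      rw [hF'] at h2
      exact absurd h2 (big h5q (by norm_num))
    · have h2 := ls e (E8.ls (r := 5) F)
      rw [hF'] at h2
      exact absurd h2 (big h5q (by norm_num))
  · obtain ⟨F, _, _, _, q, hq, ⟨hF, ⟨e⟩⟩ | ⟨hF, ⟨e⟩⟩⟩ := h1
    · obtain ⟨f, hf, rfl⟩ := exists_f_pow two_ne_zero F hF
      exact absurd (ls e (TwE6.ls (r := 5) hq hF)) (big (five_le hf) (by norm_num))
    · obtain ⟨f, hf, rfl⟩ := exists_f_pow three_ne_zero F hF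
      exact absurd (ls e (TwD4.ls (r := 5) hq hF)) (big (five_le hf) (by norm_num))
  · exact absurd h1.1 (by norm_num)
  · exact absurd h1.1 (by norm_num)
  · exact absurd h1.1 (by norm_num)

/-- the characteristic of the almost simple group -/
theorem exists_almost' {p : ℕ} (hp2 : p ≠ 2) {X : Type*} [Group X] [Finite X] [IsSimpleGroup X]
    (hX : IsLieTypeChar p X) (x : MulAut X) (hx : x * x = 1) (A : Subgroup ↥(fixedSubgroup x)) [A.Normal]
    (hA : IsQuasisimple ↥A) (h3 : 3 ∣ Nat.card ↥A) :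
    ∃ p' : ℕ, p'.Prime ∧ p' ≠ 2 ∧ (p' = p ∨ p' = 3) ∧ Almost p' (↥A ⧸ center ↥A) := by
  rcases exists_good_model hp2 hX with ⟨K, _, _, _, hpp, h, ⟨e⟩⟩ | h
  · refine ⟨p, hpp.out, hp2, Or.inl rfl, almost_congr e x A hA fun A' _ _ hA' => almost_of_good hp2 h _ ?_ A' hA'⟩
    rw [← map_pow, pow_two, hx, map_one]
  · have : Fact (Nat.Prime 3) := ⟨Nat.prime_three⟩
    have : Fact (Nat.Prime 2) := ⟨Nat.prime_two⟩
    have h1 : HasSplit 3 X := FixBN.ReeSplit.hasSplit_of_isoRee h
    obtain ⟨Y, hI, -, hY⟩ := H329.CompSplit.exists_almost (r := 2) (by norm_num) h1 x (by rw [pow_two, hx]) A hA h3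
    exact ⟨3, Nat.prime_three, by norm_num, Or.inr rfl, Y, hI, hY⟩

/-- **`X` exceptional of characteristic `p ≠ 2, 5`.** -/
theorem eo5 {p : ℕ} (hp : p.Prime) (hp2 : p ≠ 2) (hp5 : p ≠ 5) {X : Type u} [Group X] [Finite X] [IsSimpleGroup X]
    (hX : IsExcChar p X) (x : MulAut X) (hx : x * x = 1) (A : Subgroup ↥(fixedSubgroup x)) [A.Normal]
    (hA : IsQuasisimple ↥A) (h5 : IsLieTypeChar 5 (↥A ⧸ center ↥A)) :
    Nonempty (↥A ⧸ center ↥A ≃* ↥(alternatingGroup (Fin 5))) := by
  have hemb : Emb p ↥A := (emb hX).comp ((fixedSubgroup x).subtype.comp A.subtype)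
    ((fixedSubgroup x).subtype_injective.comp A.subtype_injective)
  have hperf : commutator ↥A = ⊤ := by
    have := hA.1
    exact Group.IsPerfect.commutator_eq_top
  rcases row_of_emb hp5 hemb hperf hA.2 (EO.not_comm hA) h5 with h | h
  · exfalso
    obtain ⟨p', hp', hp2', hp3, hal⟩ := exists_almost' hp2 (EO.lie_of_exc hX) x hx A hA
      (h.three.trans (Subgroup.card_quotient_dvd_card _))
    refine h.kill p' hp' hp2' ?_ hal
    rcases hp3 with rfl | rfl
    · exact hp5
    · norm_num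
  · exact h

end Cfsg.Agent.H298.EOFive
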