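import Cfsg.Agent.H298.EOCard
import Cfsg.Agent.H298.EOFiveTest
import Cfsg.Agent.H298.EOFiveUni
import Cfsg.Agent.H293.ExcG

/-!
# Numerical certificates for the `r`-test, characteristic five (helper298)

`kill` : if `|K| = N` and `|Aut(K)|` divides `M` and `chk e N M a c b l`, then no almost simple group with socle `K` has a
split (B,N)-pair of characteristic `p ≠ 2, 5`, except perhaps for `p = e`, if `b ≠ 0`.
-/

set_option autoImplicit false
set_option linter.unusedSectionVars false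

namespace Cfsg.Agent.H298.EOFiveArith

open Cfsg Subgroup Cfsg.Agent.OrdDiv Cfsg.Agent.FixBN Cfsg.Agent.H298.EOAlm Cfsg.Agent.H298.QTest Cfsg.Agent.H298.EOCard
  Cfsg.Agent.H298.EOFiveTest

/-- some primes -/
def PL : List ℕ := [3, 5, 7, 13, 31, 313, 521]

theorem prime_of_mem {q : ℕ} (h : q ∈ PL) : q.Prime := by
  simp only [PL, List.mem_cons, List.not_mem_nil, or_false] at h
  rcases h with rfl | rfl | rfl | rfl | rfl | rfl | rfl <;> norm_num

theorem ne_two_of_mem {q : ℕ} (h : q ∈ PL) : q ≠ 2 := by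
  rintro rfl
  exact absurd h (by decide)

/-- one prime: `(p, v, r)` -/
def chk1 (N M : ℕ) (t : ℕ × ℕ × ℕ) : Bool :=
  PL.contains t.1 && PL.contains t.2.2 && !(Nat.beq t.1 t.2.2) && Nat.beq (N % t.1) 0 && Nat.beq (N % t.2.2) 0 &&
    !(Nat.beq (M % t.1 ^ (t.2.1 + 1)) 0) &&
    (List.range t.2.1).all fun k => !(Nat.beq ((t.1 ^ (2 * (k + 1)) - 1) % t.2.2) 0)

/-- the certificate -/
def chk (e N M a c b : ℕ) (l : List (ℕ × ℕ × ℕ)) : Bool :=
  Nat.beq M (2 ^ a * 5 ^ c * e ^ b * (l.map fun t => t.1 ^ t.2.1).prod) && l.all (chk1 N M) && Nat.beq (N % 3) 0 &&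
    PL.contains e

theorem chk1_spec {N M p v r : ℕ} (h : chk1 N M (p, v, r) = true) :
    p ∈ PL ∧ r ∈ PL ∧ p ≠ r ∧ p ∣ N ∧ r ∣ N ∧ ¬ p ^ (v + 1) ∣ M ∧ ∀ k, k < v → ¬ r ∣ p ^ (2 * (k + 1)) - 1 := by
  simp only [chk1, Bool.and_eq_true, Bool.not_eq_true', List.all_eq_true, List.mem_range, Nat.beq_eq,
    List.contains_iff_mem] at h
  obtain ⟨⟨⟨⟨⟨⟨h1, h2⟩, h3⟩, h4⟩, h5⟩, h6⟩, h7⟩ := h
  have key : ∀ a b : ℕ, Nat.beq a b = false → a ≠ b := fun a b h h' => by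
    rw [h', Nat.beq_refl] at h
    cases h
  refine ⟨h1, h2, key _ _ h3, Nat.dvd_of_mod_eq_zero h4, Nat.dvd_of_mod_eq_zero h5,
    fun hd => key _ _ h6 (Nat.mod_eq_zero_of_dvd hd), fun k hk hd => key _ _ (h7 k hk) (Nat.mod_eq_zero_of_dvd hd)⟩

/-- **The certificate works.** -/
theorem kill {e N M a c b : ℕ} {l : List (ℕ × ℕ × ℕ)} (h : chk e N M a c b l = true) {K : Type*} [Group K] [Finite K]
    [IsSimpleGroup K] (hna : ¬ IsMulCommutative K) (hN : Nat.card K = N) (hM : Nat.card (MulAut K) ∣ M)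
    {p : ℕ} (hp : p.Prime) (hp2 : p ≠ 2) (hp5 : p ≠ 5) (hY : Almost p K) : p = e ∧ b ≠ 0 := by
  have := Fact.mk hp
  obtain ⟨Y, hI, hY⟩ := hY
  simp only [chk, Bool.and_eq_true, Nat.beq_eq, List.all_eq_true, List.contains_iff_mem] at h
  obtain ⟨⟨⟨h1, h2⟩, -⟩, he⟩ := h
  have h3 : p ∣ M := ((EOArith.dvd_card_of_hasSplit hY).trans (Subgroup.card_subgroup_dvd_card Y)).trans hM
  rw [h1, hp.dvd_mul, hp.dvd_mul, hp.dvd_mul] at h3
  rcases h3 with ((h3 | h3) | h3) | h3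
  · exact absurd ((Nat.prime_dvd_prime_iff_eq hp Nat.prime_two).1 (hp.dvd_of_dvd_pow h3)) hp2
  · exact absurd ((Nat.prime_dvd_prime_iff_eq hp (by norm_num)).1 (hp.dvd_of_dvd_pow h3)) hp5
  · refine ⟨(Nat.prime_dvd_prime_iff_eq hp (prime_of_mem he)).1 (hp.dvd_of_dvd_pow h3), ?_⟩
    rintro rfl
    exact hp.one_lt.ne' (Nat.dvd_one.1 (by simpa using h3))
  · exfalso
    obtain ⟨⟨q, v, r⟩, ht, hq⟩ := EOArith.exists_of_dvd_prod hp h3
    obtain ⟨k1, k2, k3, k4, k5, k6, k7⟩ := chk1_spec (h2 _ ht)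
    obtain rfl := (Nat.prime_dvd_prime_iff_eq hp (prime_of_mem k1)).1 hq
    obtain ⟨k, hk0, hk, hd⟩ := qtest_card hna Y hI hY (hN ▸ k4) (prime_of_mem k2) (ne_two_of_mem k2) (Ne.symm k3) (hN ▸ k5)
    have hv : (Nat.card (MulAut K)).factorization p ≤ v := by
      by_contra hc
      push Not at hc
      apply k6
      exact ((hp.pow_dvd_iff_le_factorization Nat.card_pos.ne').2 hc).trans hM
    obtain ⟨j, rfl⟩ : ∃ j, k = j + 1 := ⟨k - 1, by omega⟩
    exact k7 j (by omega) hd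

theorem three_dvd {e N M a c b : ℕ} {l : List (ℕ × ℕ × ℕ)} (h : chk e N M a c b l = true) : 3 ∣ N := by
  simp only [chk, Bool.and_eq_true, Nat.beq_eq, List.all_eq_true] at h
  exact Nat.dvd_of_mod_eq_zero h.1.2

/-- The row of a simple group. -/
structure Row (K : Type*) [Group K] : Prop where
  kill : ∀ p : ℕ, p.Prime → p ≠ 2 → p ≠ 5 → ¬ Almost p K
  three : 3 ∣ Nat.card K

theorem Row.congr {K : Type*} [Group K] {L : Type*} [Group L] (e : K ≃* L) (h : Row K) : Row L :=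
  ⟨fun p hp hp2 hp5 hA => h.kill p hp hp2 hp5 (hA.congr e.symm), Nat.card_congr e.toEquiv ▸ h.three⟩

theorem row_of {N M a c : ℕ} {l : List (ℕ × ℕ × ℕ)} (h : chk 3 N M a c 0 l = true) {K : Type*} [Group K] [Finite K]
    [IsSimpleGroup K] (hna : ¬ IsMulCommutative K) (hN : Nat.card K = N) (hM : Nat.card (MulAut K) ∣ M) : Row K :=
  ⟨fun _ hp hp2 hp5 hY => (kill h hna hN hM hp hp2 hp5 hY).2 rfl, hN ▸ three_dvd h⟩

section

variable {F : Type*} [Field F] [Fintype F]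

theorem f_pos {q f : ℕ} (hF : Fintype.card F = q) (hq : q = 5 ^ f) : 1 ≤ f := by
  by_contra h
  obtain rfl : f = 0 := by omega
  have := Fintype.one_lt_card (α := F)
  rw [hF, hq, pow_zero] at this
  omega

theorem charFive {q f : ℕ} (hF : Fintype.card F = q) (hq : q = 5 ^ f) : CharP F 5 := by
  have : Fact (Nat.Prime 5) := ⟨by norm_num⟩
  obtain ⟨r, hr⟩ := CharP.exists F
  have hrp : r.Prime := (CharP.char_is_prime_or_zero F r).resolve_right (CharP.char_ne_zero_of_finite F r)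
  have := Fact.mk hrp
  obtain ⟨n, -, hn⟩ := FiniteField.card F r
  have h3 : r ∣ 5 ^ f := by rw [← hq, ← hF, hn]; exact dvd_pow_self r n.ne_zero
  rw [(Nat.prime_dvd_prime_iff_eq hrp (by norm_num)).1 (hrp.dvd_of_dvd_pow h3)] at hr
  exact hr

/-- orders of `PSL_n(q)` and its automorphism group -/
theorem psl_ord {n q f N : ℕ} (hF : Fintype.card F = q) (hq : q = 5 ^ f) (hn : 2 ≤ n)
    (hd : Nat.beq (Nat.gcd n (q - 1) * (q - 1) * N) (glN n q) = true) :
    Nat.card (Matrix.ProjectiveSpecialLinearGroup (Fin n) F) = N ∧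
      Nat.card (MulAut (Matrix.ProjectiveSpecialLinearGroup (Fin n) F)) = (if n = 2 then 1 else 2) * f *
        (Nat.gcd n (q - 1) * N) := by
  have : Fact (Nat.Prime 5) := ⟨by norm_num⟩
  have hf := f_pos hF hq
  have h2 : 5 ≤ q := by
    rw [hq]
    calc 5 = 5 ^ 1 := by norm_num
      _ ≤ 5 ^ f := Nat.pow_le_pow_right (by norm_num) hf
  have hN : Nat.card (Matrix.ProjectiveSpecialLinearGroup (Fin n) F) = N := by
    refine eq_of (card_psl (F := F) (n := n) hn) (by rw [hF]; exact Nat.eq_of_beq_eq_true hd) ?_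
    rw [hF]
    exact Nat.mul_pos (Nat.gcd_pos_of_pos_left _ (by omega)) (by omega)
  refine ⟨hN, ?_⟩
  rw [S0813.result (F := F) 5 f hf (hF.trans hq) n hn (fun _ => by rw [← hq]; omega), H934.OutCl.card_pgl hn, hN, hF]

theorem psp_ord {m q f N : ℕ} (hF : Fintype.card F = q) (hq : q = 5 ^ f)
    (hm : 2 ≤ m) (hd : Nat.beq (Nat.gcd 2 (q - 1) * N) (q ^ (m ^ 2) * prB q m) = true) :
    Nat.card (PSp m F) = N ∧ Nat.card (MulAut (PSp m F)) ∣ 2 * f * N := by
  have : Fact (Nat.Prime 5) := ⟨by norm_num⟩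
  have hf := f_pos hF hq
  have h2 : 5 ≤ q := by
    rw [hq]
    calc 5 = 5 ^ 1 := by norm_num
      _ ≤ 5 ^ f := Nat.pow_le_pow_right (by norm_num) hf
  have hN : Nat.card (PSp m F) = N := by
    refine eq_of (card_psp (F := F) (m := m) (by omega)) (by rw [hF]; exact Nat.eq_of_beq_eq_true hd) ?_
    exact Nat.gcd_pos_of_pos_left _ (by norm_num)
  refine ⟨hN, ?_⟩
  rw [S0814.result (F := F) 5 f hf (hF.trans hq) m (by omega) (fun _ => by rw [← hq]; omega), if_neg (by omega), hN,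
    one_mul]
  exact Nat.mul_dvd_mul (Nat.mul_dvd_mul (Nat.gcd_dvd_left _ _) dvd_rfl) dvd_rfl

theorem psu_ord {n q f N : ℕ} (hF : Fintype.card F = q ^ 2) (hq : q = 5 ^ f) (hf : 1 ≤ f)
    (hn : 3 ≤ n) (hd : Nat.beq (Nat.gcd n (q + 1) * (q + 1) * N) (q ^ (n * (n - 1) / 2) * prU q n) = true) :
    Nat.card (PSU n F q) = N ∧ Nat.card (MulAut (PSU n F q)) = Nat.gcd n (q + 1) * (2 * f) * N := by
  have : Fact (Nat.Prime 5) := ⟨by norm_num⟩
  have h2 : 5 ≤ q := by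
    rw [hq]
    calc 5 = 5 ^ 1 := by norm_num
      _ ≤ 5 ^ f := Nat.pow_le_pow_right (by norm_num) hf
  have hN : Nat.card (PSU n F q) = N := by
    refine eq_of (card_psu (F := F) (n := n) hF (by omega)) (Nat.eq_of_beq_eq_true hd) ?_
    exact Nat.mul_pos (Nat.gcd_pos_of_pos_left _ (by omega)) (by omega)
  refine ⟨hN, ?_⟩
  rw [S0815.result (F := F) 5 f hf hq hF n hn (by omega), hN]

theorem oodd_ord {m q f N : ℕ} (hF : Fintype.card F = q) (hq : q = 5 ^ f)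
    (hm : 3 ≤ m) (hd : Nat.beq (2 * N) (q ^ (m ^ 2) * prB q m) = true) :
    Nat.card (POmega F (quadFormOdd m F)) = N ∧ Nat.card (MulAut (POmega F (quadFormOdd m F))) = 2 * f * N := by
  have : Fact (Nat.Prime 5) := ⟨by norm_num⟩
  have hf := f_pos hF hq
  have hodd : Odd (Fintype.card F) := by
    rw [hF, hq]
    exact Odd.pow (by decide)
  have hN : Nat.card (POmega F (quadFormOdd m F)) = N := by
    have h1 := S0292.result (F := F) rfl hodd m hm
    rw [← prod_list (fun i => Fintype.card F ^ (2 * (i + 1)) - 1), hF] at h1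
    exact eq_of h1 (Nat.eq_of_beq_eq_true hd) (by norm_num)
  refine ⟨hN, ?_⟩
  rw [S0816.result (F := F) 5 f hf (hF.trans hq) (by decide) m hm, hN]

theorem oplus_ord {m q f N : ℕ} (hF : Fintype.card F = q) (hq : q = 5 ^ f)
    (hm : 4 ≤ m) (hd : Nat.beq (Nat.gcd 4 (q ^ m - 1) * N) (q ^ (m * (m - 1)) * ((q ^ m - 1) * prB q (m - 1))) = true) :
    Nat.card (POmega F (quadFormPlus m F)) = N ∧ Nat.card (MulAut (POmega F (quadFormPlus m F))) ∣ 24 * f * N := by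
  have : Fact (Nat.Prime 5) := ⟨by norm_num⟩
  have hf := f_pos hF hq
  have hN : Nat.card (POmega F (quadFormPlus m F)) = N := by
    refine eq_of (card_oplus (F := F) hm) (by rw [hF]; exact Nat.eq_of_beq_eq_true hd) ?_
    exact Nat.gcd_pos_of_pos_left _ (by omega)
  refine ⟨hN, ?_⟩
  rw [S0817.result (F := F) 5 f hf (hF.trans hq) m hm, hN, if_neg (by norm_num : ¬ (5 = 2))]
  refine Nat.mul_dvd_mul (Nat.mul_dvd_mul ?_ dvd_rfl) dvd_rfl
  split_ifs <;> decide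

theorem ominus_ord {m q f N : ℕ} (hF : Fintype.card F = q) (hq : q = 5 ^ f)
    (hm : 4 ≤ m) (hd : Nat.beq (Nat.gcd 4 (q ^ m + 1) * N) (q ^ (m * (m - 1)) * ((q ^ m + 1) * prB q (m - 1))) = true)
    {α β : F} (hab : ∀ z₁ z₂ : F, z₁ ^ 2 + α * z₁ * z₂ + β * z₂ ^ 2 = 0 → z₁ = 0 ∧ z₂ = 0) :
    Nat.card (POmega F (quadFormMinus (m - 1) F α β)) = N ∧
      Nat.card (MulAut (POmega F (quadFormMinus (m - 1) F α β))) ∣ 8 * f * N := by
  have : Fact (Nat.Prime 5) := ⟨by norm_num⟩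
  have hf := f_pos hF hq
  have hN : Nat.card (POmega F (quadFormMinus (m - 1) F α β)) = N := by
    refine eq_of (card_ominus (F := F) hm hab) (by rw [hF]; exact Nat.eq_of_beq_eq_true hd) ?_
    exact Nat.gcd_pos_of_pos_left _ (by omega)
  refine ⟨hN, ?_⟩
  rw [S0818.result (F := F) 5 f hf (hF.trans hq) m hm α β hab, hN, if_neg (by norm_num : ¬ (5 = 2))]
  refine Nat.mul_dvd_mul (Nat.mul_dvd_mul ?_ dvd_rfl) dvd_rfl
  split_ifs <;> decide

end

end Cfsg.Agent.H298.EOFiveArith
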