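import Cfsg.Agent.H298.EOFiveArith

/-!
# The `r`-test for the small groups of Lie type of characteristic five (helper298)
-/

set_option autoImplicit false
set_option linter.unusedSectionVars false

namespace Cfsg.Agent.H298.EOFiveRows

open Cfsg Cfsg.Agent.OrdDiv Cfsg.Agent.H298.EOAlm Cfsg.Agent.H298.EOFiveArith Cfsg.Agent.H298.EOFiveTest
  Cfsg.Agent.H298.EOFiveUni

variable {F : Type*} [Field F] [Fintype F]

theorem psl_2_25 (hF : Fintype.card F = 25)
    (hs : IsSimpleGroup (Matrix.ProjectiveSpecialLinearGroup (Fin 2) F))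
    (hna : ¬ IsMulCommutative (Matrix.ProjectiveSpecialLinearGroup (Fin 2) F)) :
    Row (Matrix.ProjectiveSpecialLinearGroup (Fin 2) F) := by
  have : Finite (Matrix.ProjectiveSpecialLinearGroup (Fin 2) F) := Quotient.finite _
  obtain ⟨hN, hM⟩ := psl_ord (n := 2) (N := 7800) (f := 2) hF (by norm_num) (by norm_num) (by decide +kernel)
  exact row_of (M := 31200) (a := 5) (c := 2) (l := [(3, 1, 5), (13, 1, 5)]) (by decide +kernel) hna hN
    (by rw [hM]; decide +kernel)

theorem psl_2_125 (hF : Fintype.card F = 125)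
    (hs : IsSimpleGroup (Matrix.ProjectiveSpecialLinearGroup (Fin 2) F))
    (hna : ¬ IsMulCommutative (Matrix.ProjectiveSpecialLinearGroup (Fin 2) F)) :
    Row (Matrix.ProjectiveSpecialLinearGroup (Fin 2) F) := by
  have : Finite (Matrix.ProjectiveSpecialLinearGroup (Fin 2) F) := Quotient.finite _
  obtain ⟨hN, hM⟩ := psl_ord (n := 2) (N := 976500) (f := 3) hF (by norm_num) (by norm_num) (by decide +kernel)
  exact row_of (M := 5859000) (a := 3) (c := 3) (l := [(3, 3, 31), (7, 1, 5), (31, 1, 7)]) (by decide +kernel) hna hN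
    (by rw [hM]; decide +kernel)

theorem psl_3_5 (hF : Fintype.card F = 5)
    (hs : IsSimpleGroup (Matrix.ProjectiveSpecialLinearGroup (Fin 3) F))
    (hna : ¬ IsMulCommutative (Matrix.ProjectiveSpecialLinearGroup (Fin 3) F)) :
    Row (Matrix.ProjectiveSpecialLinearGroup (Fin 3) F) := by
  have : Fact (Nat.Prime 5) := ⟨by norm_num⟩
  have : Finite (Matrix.ProjectiveSpecialLinearGroup (Fin 3) F) := Quotient.finite _
  obtain ⟨hN, hM⟩ := psl_ord (n := 3) (N := 372000) (f := 1) hF (by norm_num) (by norm_num) (by decide +kernel)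
  have hM' : Nat.card (MulAut (Matrix.ProjectiveSpecialLinearGroup (Fin 3) F)) = 744000 := by rw [hM]; decide +kernel
  have := charFive (f := 1) hF (by norm_num)
  have hc : chk 31 372000 744000 6 3 1 [(3, 1, 5)] = true := by decide +kernel
  refine ⟨fun p hp hp2 hp5 hA => ?_, hN ▸ three_dvd hc⟩
  obtain ⟨rfl, -⟩ := kill hc hna hN (dvd_of_eq hM') hp hp2 hp5 hA
  obtain ⟨R, hR, hR5⟩ := exists_R_psl (F := F) (p := 5) (n := 3) (j := 2) (by norm_num) (by rw [hN]; decide)
  exact no_31 hna (by rw [hN]; decide) (by rw [hM']; decide) R (by rw [hR]; norm_num) hR5 hA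

theorem psl_4_5 (hF : Fintype.card F = 5)
    (hs : IsSimpleGroup (Matrix.ProjectiveSpecialLinearGroup (Fin 4) F))
    (hna : ¬ IsMulCommutative (Matrix.ProjectiveSpecialLinearGroup (Fin 4) F)) :
    Row (Matrix.ProjectiveSpecialLinearGroup (Fin 4) F) := by
  have : Finite (Matrix.ProjectiveSpecialLinearGroup (Fin 4) F) := Quotient.finite _
  obtain ⟨hN, hM⟩ := psl_ord (n := 4) (N := 7254000000) (f := 1) hF (by norm_num) (by norm_num) (by decide +kernel)
  exact row_of (M := 58032000000) (a := 10) (c := 6) (l := [(3, 2, 31), (13, 1, 5), (31, 1, 13)]) (by decide +kernel)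
    hna hN (by rw [hM]; decide +kernel)

theorem psu_3_5 (hF : Fintype.card F = 5 ^ 2)
    (hs : IsSimpleGroup (PSU 3 F 5)) (hna : ¬ IsMulCommutative (PSU 3 F 5)) : Row (PSU 3 F 5) := by
  have : Fact (Nat.Prime 5) := ⟨by norm_num⟩
  have : Finite (PSU 3 F 5) := Quotient.finite _
  obtain ⟨hN, hM⟩ := psu_ord (N := 126000) (f := 1) hF (by norm_num) le_rfl le_rfl (by decide +kernel)
  have hM' : Nat.card (MulAut (PSU 3 F 5)) = 756000 := by rw [hM]; decide +kernel
  have := charFive (f := 2) hF (by norm_num)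
  have hc : chk 3 126000 756000 5 3 3 [(7, 1, 5)] = true := by decide +kernel
  refine ⟨fun p hp hp2 hp5 hA => ?_, hN ▸ three_dvd hc⟩
  obtain ⟨rfl, -⟩ := kill hc hna hN (dvd_of_eq hM') hp hp2 hp5 hA
  obtain ⟨R, hR, hR5⟩ := exists_R_psu (F := F) (p := 5) (n := 3) (q := 5) (j := 2) (by norm_num) (by rw [hN]; decide)
  exact no_27 hna (by rw [hN]; decide) (by rw [hM']; decide) (by rw [hN]; decide) R (by rw [hR]; norm_num) hR5 hA

theorem psu_4_5 (hF : Fintype.card F = 5 ^ 2)
    (hs : IsSimpleGroup (PSU 4 F 5)) (hna : ¬ IsMulCommutative (PSU 4 F 5)) : Row (PSU 4 F 5) := by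
  have : Fact (Nat.Prime 5) := ⟨by norm_num⟩
  have : Finite (PSU 4 F 5) := Quotient.finite _
  obtain ⟨hN, hM⟩ := psu_ord (n := 4) (N := 14742000000) (f := 1) hF (by norm_num) le_rfl (by norm_num)
    (by decide +kernel)
  have hM' : Nat.card (MulAut (PSU 4 F 5)) = 58968000000 := by rw [hM]; decide +kernel
  have := charFive (f := 2) hF (by norm_num)
  have hc : chk 3 14742000000 58968000000 9 6 4 [(7, 1, 5), (13, 1, 5)] = true := by decide +kernel
  refine ⟨fun p hp hp2 hp5 hA => ?_, hN ▸ three_dvd hc⟩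
  obtain ⟨rfl, -⟩ := kill hc hna hN (dvd_of_eq hM') hp hp2 hp5 hA
  obtain ⟨R, hR, hR5⟩ := exists_R_psu (F := F) (p := 5) (n := 4) (q := 5) (j := 3) (by norm_num) (by rw [hN]; decide)
  exact no_81 hna (by rw [hN]; decide) (by rw [hM']; decide) R (by rw [hR]; norm_num) hR5 hA

theorem psp_2_5 (hF : Fintype.card F = 5)
    (hs : IsSimpleGroup (PSp 2 F)) (hna : ¬ IsMulCommutative (PSp 2 F)) : Row (PSp 2 F) := by
  have : Finite (PSp 2 F) := Quotient.finite _
  obtain ⟨hN, hM⟩ := psp_ord (N := 4680000) (f := 1) hF (by norm_num) le_rfl (by decide +kernel)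
  exact row_of (M := 9360000) (a := 7) (c := 4) (l := [(3, 2, 13), (13, 1, 5)]) (by decide +kernel)
    hna hN (hM.trans (by decide +kernel))

theorem psp_3_5 (hF : Fintype.card F = 5)
    (hs : IsSimpleGroup (PSp 3 F)) (hna : ¬ IsMulCommutative (PSp 3 F)) : Row (PSp 3 F) := by
  have : Finite (PSp 3 F) := Quotient.finite _
  obtain ⟨hN, hM⟩ := psp_ord (m := 3) (N := 228501000000000) (f := 1) hF (by norm_num) (by norm_num) (by decide +kernel)
  exact row_of (M := 457002000000000) (a := 10) (c := 9) (l := [(3, 4, 31), (7, 1, 5), (13, 1, 5), (31, 1, 7)])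
    (by decide +kernel) hna hN (hM.trans (by decide +kernel))

theorem oodd_3_5 (hF : Fintype.card F = 5)
    (hs : IsSimpleGroup (POmega F (quadFormOdd 3 F))) (hna : ¬ IsMulCommutative (POmega F (quadFormOdd 3 F))) :
    Row (POmega F (quadFormOdd 3 F)) := by
  have : Finite (POmega F (quadFormOdd 3 F)) := Quotient.finite _
  obtain ⟨hN, hM⟩ := oodd_ord (m := 3) (N := 228501000000000) (f := 1) hF (by norm_num) le_rfl (by decide +kernel)
  exact row_of (M := 457002000000000) (a := 10) (c := 9) (l := [(3, 4, 31), (7, 1, 5), (13, 1, 5), (31, 1, 7)])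
    (by decide +kernel) hna hN (by rw [hM])

theorem oodd_4_5 (hF : Fintype.card F = 5)
    (hs : IsSimpleGroup (POmega F (quadFormOdd 4 F))) (hna : ¬ IsMulCommutative (POmega F (quadFormOdd 4 F))) :
    Row (POmega F (quadFormOdd 4 F)) := by
  have : Finite (POmega F (quadFormOdd 4 F)) := Quotient.finite _
  obtain ⟨hN, hM⟩ := oodd_ord (m := 4) (N := 6973279267500000000000000) (f := 1) hF (by norm_num) (by norm_num)
    (by decide +kernel)
  exact row_of (M := 13946558535000000000000000) (a := 15) (c := 16)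
    (l := [(3, 5, 31), (7, 1, 5), (13, 2, 31), (31, 1, 7), (313, 1, 5)])
    (by decide +kernel) hna hN (by rw [hM])

theorem oplus_4_5 (hF : Fintype.card F = 5)
    (hs : IsSimpleGroup (POmega F (quadFormPlus 4 F))) (hna : ¬ IsMulCommutative (POmega F (quadFormPlus 4 F))) :
    Row (POmega F (quadFormPlus 4 F)) := by
  have : Finite (POmega F (quadFormPlus 4 F)) := Quotient.finite _
  obtain ⟨hN, hM⟩ := oplus_ord (N := 8911539000000000000) (f := 1) hF (by norm_num) le_rfl (by decide +kernel)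
  exact row_of (M := 213876936000000000000) (a := 15) (c := 12)
    (l := [(3, 6, 31), (7, 1, 5), (13, 2, 31), (31, 1, 7)])
    (by decide +kernel) hna hN (hM.trans (by decide +kernel))

theorem ominus_4_5 (hF : Fintype.card F = 5) {α β : F}
    (hab : ∀ z₁ z₂ : F, z₁ ^ 2 + α * z₁ * z₂ + β * z₂ ^ 2 = 0 → z₁ = 0 ∧ z₂ = 0)
    (hs : IsSimpleGroup (POmega F (quadFormMinus (4 - 1) F α β)))
    (hna : ¬ IsMulCommutative (POmega F (quadFormMinus (4 - 1) F α β))) :
    Row (POmega F (quadFormMinus (4 - 1) F α β)) := by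
  have : Finite (POmega F (quadFormMinus (4 - 1) F α β)) := Quotient.finite _
  obtain ⟨hN, hM⟩ := ominus_ord (m := 4) (N := 17880203250000000000) (f := 1) hF (by norm_num) le_rfl
    (by decide +kernel) hab
  exact row_of (M := 143041626000000000000) (a := 13) (c := 12)
    (l := [(3, 4, 31), (7, 1, 5), (13, 1, 5), (31, 1, 7), (313, 1, 5)])
    (by decide +kernel) hna hN (hM.trans (by decide +kernel))

theorem ominus_5_5 (hF : Fintype.card F = 5) {α β : F}
    (hab : ∀ z₁ z₂ : F, z₁ ^ 2 + α * z₁ * z₂ + β * z₂ ^ 2 = 0 → z₁ = 0 ∧ z₂ = 0)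
    (hs : IsSimpleGroup (POmega F (quadFormMinus (5 - 1) F α β)))
    (hna : ¬ IsMulCommutative (POmega F (quadFormMinus (5 - 1) F α β))) :
    Row (POmega F (quadFormMinus (5 - 1) F α β)) := by
  have : Finite (POmega F (quadFormMinus (5 - 1) F α β)) := Quotient.finite _
  obtain ⟨hN, hM⟩ := ominus_ord (m := 5) (N := 13624044368878125000000000000000) (f := 1) hF (by norm_num) (by norm_num)
    (by decide +kernel) hab
  exact row_of (M := 108992354951025000000000000000000) (a := 18) (c := 20)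
    (l := [(3, 6, 31), (7, 1, 5), (13, 2, 31), (31, 1, 7), (313, 1, 5), (521, 1, 7)])
    (by decide +kernel) hna hN (hM.trans (by decide +kernel))

theorem g2_5 (hF : Fintype.card F = 5)
    (hs : IsSimpleGroup ↥(Lie.chevG2.group F)) (hna : ¬ IsMulCommutative ↥(Lie.chevG2.group F)) :
    Row ↥(Lie.chevG2.group F) := by
  have : Fact (Nat.Prime 5) := ⟨by norm_num⟩
  have hZ := H293.Cfg.center_bot_of_simple hs hna
  have hN : Nat.card ↥(Lie.chevG2.group F) = 5859000000 := by
    rw [H293.Cfg.card_G, hF]; norm_num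
  have := charFive (f := 1) hF (by norm_num)
  have hM : Nat.card (MulAut ↥(Lie.chevG2.group F)) ∣ 11718000000 := by
    rw [H293.Cfg.card_mulAut hZ, H293.Cfg.card_G, hF,
      Cfsg.Agent.H69.OutGF.card_out_G2 (by rw [Nat.card_eq_fintype_card, hF]; norm_num),
      H166.FieldAut.card_ringAut 5 1 (by rw [hF]; norm_num)]
    have h4 : Nat.card ↥(Cfsg.Agent.H70.OutCount.realised Cfsg.Agent.H69.OutGF.hG2 F) ∣ 2 := by
      have h5 := Subgroup.card_subgroup_dvd_card (Cfsg.Agent.H70.OutCount.realised Cfsg.Agent.H69.OutGF.hG2 F)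
      have h6 : Nat.card (Equiv.Perm (Fin Lie.chevG2.rank)) = 2 := by
        rw [Nat.card_eq_fintype_card, Fintype.card_perm, Fintype.card_fin]
        rfl
      rwa [h6] at h5
    have h5 : (11718000000 : ℕ) = 2 * 1 * (5 ^ 6 * (5 ^ 2 - 1) * (5 ^ 6 - 1)) := by norm_num
    rw [h5]
    exact Nat.mul_dvd_mul (Nat.mul_dvd_mul h4 dvd_rfl) dvd_rfl
  exact row_of (M := 11718000000) (a := 7) (c := 6) (l := [(3, 3, 31), (7, 1, 5), (31, 1, 7)]) (by decide +kernel) hna
    hN hM

end Cfsg.Agent.H298.EOFiveRows
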