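import Cfsg.Agent.H298.EOCard

/-!
# The `r`-test for the small classical groups of characteristic two (helper298)
-/

set_option autoImplicit false
set_option linter.unusedSectionVars false

namespace Cfsg.Agent.H298.EORows

open Cfsg Cfsg.Agent.OrdDiv Cfsg.Agent.H298.EOArith Cfsg.Agent.H298.EOAlm Cfsg.Agent.H298.EOCard

variable {F : Type*} [Field F] [Fintype F]

theorem psl_4_2 (hF : Fintype.card F = 2)
    (hs : IsSimpleGroup (Matrix.ProjectiveSpecialLinearGroup (Fin 4) F)) (hna : ¬ IsMulCommutative (Matrix.ProjectiveSpecialLinearGroup (Fin 4) F)) :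
    Row 0 (Matrix.ProjectiveSpecialLinearGroup (Fin 4) F) :=
  psl_row (f := 1) (N := 20160) (a := 7) (b := 0)
    (l := [(3, 2, 7), (5, 1, 7), (7, 1, 5)])
    hF (by norm_num) (by norm_num) (by norm_num) (by decide +kernel) (by decide +kernel) hs hna

theorem psl_5_2 (hF : Fintype.card F = 2)
    (hs : IsSimpleGroup (Matrix.ProjectiveSpecialLinearGroup (Fin 5) F)) (hna : ¬ IsMulCommutative (Matrix.ProjectiveSpecialLinearGroup (Fin 5) F)) :
    Row 0 (Matrix.ProjectiveSpecialLinearGroup (Fin 5) F) :=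
  psl_row (f := 1) (N := 9999360) (a := 11) (b := 0)
    (l := [(3, 2, 7), (5, 1, 7), (7, 1, 5), (31, 1, 7)])
    hF (by norm_num) (by norm_num) (by norm_num) (by decide +kernel) (by decide +kernel) hs hna

theorem psl_6_2 (hF : Fintype.card F = 2)
    (hs : IsSimpleGroup (Matrix.ProjectiveSpecialLinearGroup (Fin 6) F)) (hna : ¬ IsMulCommutative (Matrix.ProjectiveSpecialLinearGroup (Fin 6) F)) :
    Row 0 (Matrix.ProjectiveSpecialLinearGroup (Fin 6) F) :=
  psl_row (f := 1) (N := 20158709760) (a := 16) (b := 0)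
    (l := [(3, 4, 31), (5, 1, 7), (7, 2, 31), (31, 1, 7)])
    hF (by norm_num) (by norm_num) (by norm_num) (by decide +kernel) (by decide +kernel) hs hna

theorem psl_7_2 (hF : Fintype.card F = 2)
    (hs : IsSimpleGroup (Matrix.ProjectiveSpecialLinearGroup (Fin 7) F)) (hna : ¬ IsMulCommutative (Matrix.ProjectiveSpecialLinearGroup (Fin 7) F)) :
    Row 0 (Matrix.ProjectiveSpecialLinearGroup (Fin 7) F) :=
  psl_row (f := 1) (N := 163849992929280) (a := 22) (b := 0)
    (l := [(3, 4, 31), (5, 1, 7), (7, 2, 31), (31, 1, 7), (127, 1, 5)])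
    hF (by norm_num) (by norm_num) (by norm_num) (by decide +kernel) (by decide +kernel) hs hna

theorem psl_8_2 (hF : Fintype.card F = 2)
    (hs : IsSimpleGroup (Matrix.ProjectiveSpecialLinearGroup (Fin 8) F)) (hna : ¬ IsMulCommutative (Matrix.ProjectiveSpecialLinearGroup (Fin 8) F)) :
    Row 0 (Matrix.ProjectiveSpecialLinearGroup (Fin 8) F) :=
  psl_row (f := 1) (N := 5348063769211699200) (a := 29) (b := 0)
    (l := [(3, 5, 17), (5, 2, 7), (7, 2, 17), (17, 1, 5), (31, 1, 7), (127, 1, 5)])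
    hF (by norm_num) (by norm_num) (by norm_num) (by decide +kernel) (by decide +kernel) hs hna

theorem psl_4_4 (hF : Fintype.card F = 4)
    (hs : IsSimpleGroup (Matrix.ProjectiveSpecialLinearGroup (Fin 4) F)) (hna : ¬ IsMulCommutative (Matrix.ProjectiveSpecialLinearGroup (Fin 4) F)) :
    Row 0 (Matrix.ProjectiveSpecialLinearGroup (Fin 4) F) :=
  psl_row (f := 2) (N := 987033600) (a := 14) (b := 0)
    (l := [(3, 4, 17), (5, 2, 7), (7, 1, 5), (17, 1, 5)])
    hF (by norm_num) (by norm_num) (by norm_num) (by decide +kernel) (by decide +kernel) hs hna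

theorem psp_3_2 (hF : Fintype.card F = 2)
    (hs : IsSimpleGroup (PSp 3 F)) (hna : ¬ IsMulCommutative (PSp 3 F)) :
    Row 4 (PSp 3 F) :=
  psp_row (f := 1) (N := 1451520) (a := 9) (b := 4)
    (l := [(5, 1, 7), (7, 1, 5)])
    hF (by norm_num) (by norm_num) (by norm_num) (by decide +kernel) (by decide +kernel) hs hna

theorem psp_4_2 (hF : Fintype.card F = 2)
    (hs : IsSimpleGroup (PSp 4 F)) (hna : ¬ IsMulCommutative (PSp 4 F)) :
    Row 0 (PSp 4 F) :=
  psp_row (f := 1) (N := 47377612800) (a := 16) (b := 0)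
    (l := [(3, 5, 17), (5, 2, 7), (7, 1, 5), (17, 1, 5)])
    hF (by norm_num) (by norm_num) (by norm_num) (by decide +kernel) (by decide +kernel) hs hna

theorem psp_5_2 (hF : Fintype.card F = 2)
    (hs : IsSimpleGroup (PSp 5 F)) (hna : ¬ IsMulCommutative (PSp 5 F)) :
    Row 0 (PSp 5 F) :=
  psp_row (f := 1) (N := 24815256521932800) (a := 25) (b := 0)
    (l := [(3, 6, 17), (5, 2, 7), (7, 1, 5), (11, 1, 7), (17, 1, 5), (31, 1, 7)])
    hF (by norm_num) (by norm_num) (by norm_num) (by decide +kernel) (by decide +kernel) hs hna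

theorem psp_6_2 (hF : Fintype.card F = 2)
    (hs : IsSimpleGroup (PSp 6 F)) (hna : ¬ IsMulCommutative (PSp 6 F)) :
    Row 0 (PSp 6 F) :=
  psp_row (f := 1) (N := 208114637736580743168000) (a := 36) (b := 0)
    (l := [(3, 8, 31), (5, 3, 11), (7, 2, 11), (11, 1, 7), (13, 1, 5), (17, 1, 5), (31, 1, 7)])
    hF (by norm_num) (by norm_num) (by norm_num) (by decide +kernel) (by decide +kernel) hs hna

theorem psp_7_2 (hF : Fintype.card F = 2)
    (hs : IsSimpleGroup (PSp 7 F)) (hna : ¬ IsMulCommutative (PSp 7 F)) :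
    Row 0 (PSp 7 F) :=
  psp_row (f := 1) (N := 27930968965434591767112450048000) (a := 49) (b := 0)
    (l := [(3, 9, 31), (5, 3, 11), (7, 2, 11), (11, 1, 7), (13, 1, 5), (17, 1, 5), (31, 1, 7), (43, 1, 5), (127, 1, 5)])
    hF (by norm_num) (by norm_num) (by norm_num) (by decide +kernel) (by decide +kernel) hs hna

theorem psp_3_4 (hF : Fintype.card F = 4)
    (hs : IsSimpleGroup (PSp 3 F)) (hna : ¬ IsMulCommutative (PSp 3 F)) :
    Row 0 (PSp 3 F) :=
  psp_row (f := 2) (N := 4106059776000) (a := 19) (b := 0)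
    (l := [(3, 4, 17), (5, 3, 17), (7, 1, 5), (13, 1, 5), (17, 1, 5)])
    hF (by norm_num) (by norm_num) (by norm_num) (by decide +kernel) (by decide +kernel) hs hna

theorem psu_6_2 (hF : Fintype.card F = 2 ^ 2)
    (hs : IsSimpleGroup (PSU 6 F 2)) (hna : ¬ IsMulCommutative (PSU 6 F 2)) :
    Row 7 (PSU 6 F 2) :=
  psu_row (f := 1) (N := 9196830720) (a := 16) (b := 7)
    (l := [(5, 1, 7), (7, 1, 5), (11, 1, 7)])
    hF (by norm_num) (by norm_num) (by norm_num) (by decide +kernel) (by decide +kernel) hs hna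

theorem psu_7_2 (hF : Fintype.card F = 2 ^ 2)
    (hs : IsSimpleGroup (PSU 7 F 2)) (hna : ¬ IsMulCommutative (PSU 7 F 2)) :
    Row 0 (PSU 7 F 2) :=
  psu_row (f := 1) (N := 227787103272960) (a := 22) (b := 0)
    (l := [(3, 8, 43), (5, 1, 7), (7, 1, 5), (11, 1, 7), (43, 1, 5)])
    hF (by norm_num) (by norm_num) (by norm_num) (by decide +kernel) (by decide +kernel) hs hna

theorem psu_8_2 (hF : Fintype.card F = 2 ^ 2)
    (hs : IsSimpleGroup (PSU 8 F 2)) (hna : ¬ IsMulCommutative (PSU 8 F 2)) :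
    Row 0 (PSU 8 F 2) :=
  psu_row (f := 1) (N := 7434971050829414400) (a := 29) (b := 0)
    (l := [(3, 9, 43), (5, 2, 7), (7, 1, 5), (11, 1, 7), (17, 1, 5), (43, 1, 5)])
    hF (by norm_num) (by norm_num) (by norm_num) (by decide +kernel) (by decide +kernel) hs hna

theorem psu_9_2 (hF : Fintype.card F = 2 ^ 2)
    (hs : IsSimpleGroup (PSU 9 F 2)) (hna : ¬ IsMulCommutative (PSU 9 F 2)) :
    Row 0 (PSU 9 F 2) :=
  psu_row (f := 1) (N := 325473292721108444774400) (a := 37) (b := 0)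
    (l := [(3, 12, 43), (5, 2, 7), (7, 1, 5), (11, 1, 7), (17, 1, 5), (19, 1, 7), (43, 1, 5)])
    hF (by norm_num) (by norm_num) (by norm_num) (by decide +kernel) (by decide +kernel) hs hna

theorem oplus_4_2 (hF : Fintype.card F = 2)
    (hs : IsSimpleGroup (POmega F (quadFormPlus 4 F))) (hna : ¬ IsMulCommutative (POmega F (quadFormPlus 4 F))) :
    Row 6 (POmega F (quadFormPlus 4 F)) :=
  oplus_row (f := 1) (N := 174182400) (a := 13) (b := 6)
    (l := [(5, 2, 7), (7, 1, 5)])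
    hF (by norm_num) (by norm_num) (by norm_num) (by decide +kernel) (by decide +kernel) hs hna

theorem oplus_5_2 (hF : Fintype.card F = 2)
    (hs : IsSimpleGroup (POmega F (quadFormPlus 5 F))) (hna : ¬ IsMulCommutative (POmega F (quadFormPlus 5 F))) :
    Row 0 (POmega F (quadFormPlus 5 F)) :=
  oplus_row (f := 1) (N := 23499295948800) (a := 21) (b := 0)
    (l := [(3, 5, 17), (5, 2, 7), (7, 1, 5), (17, 1, 5), (31, 1, 7)])
    hF (by norm_num) (by norm_num) (by norm_num) (by decide +kernel) (by decide +kernel) hs hna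

theorem oplus_6_2 (hF : Fintype.card F = 2)
    (hs : IsSimpleGroup (POmega F (quadFormPlus 6 F))) (hna : ¬ IsMulCommutative (POmega F (quadFormPlus 6 F))) :
    Row 0 (POmega F (quadFormPlus 6 F)) :=
  oplus_row (f := 1) (N := 50027557148216524800) (a := 31) (b := 0)
    (l := [(3, 8, 31), (5, 2, 7), (7, 2, 11), (11, 1, 7), (17, 1, 5), (31, 1, 7)])
    hF (by norm_num) (by norm_num) (by norm_num) (by decide +kernel) (by decide +kernel) hs hna

theorem oplus_7_2 (hF : Fintype.card F = 2)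
    (hs : IsSimpleGroup (POmega F (quadFormPlus 7 F))) (hna : ¬ IsMulCommutative (POmega F (quadFormPlus 7 F))) :
    Row 0 (POmega F (quadFormPlus 7 F)) :=
  oplus_row (f := 1) (N := 1691555775522928280469504000) (a := 43) (b := 0)
    (l := [(3, 8, 31), (5, 3, 11), (7, 2, 11), (11, 1, 7), (13, 1, 5), (17, 1, 5), (31, 1, 7), (127, 1, 5)])
    hF (by norm_num) (by norm_num) (by norm_num) (by decide +kernel) (by decide +kernel) hs hna

theorem oplus_8_2 (hF : Fintype.card F = 2)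
    (hs : IsSimpleGroup (POmega F (quadFormPlus 8 F))) (hna : ¬ IsMulCommutative (POmega F (quadFormPlus 8 F))) :
    Row 0 (POmega F (quadFormPlus 8 F)) :=
  oplus_row (f := 1) (N := 911666827031785075278550369566720000) (a := 57) (b := 0)
    (l := [(3, 10, 31), (5, 4, 11), (7, 2, 11), (11, 1, 7), (13, 1, 5), (17, 2, 7), (31, 1, 7), (43, 1, 5), (127, 1, 5)])
    hF (by norm_num) (by norm_num) (by norm_num) (by decide +kernel) (by decide +kernel) hs hna

theorem oplus_4_4 (hF : Fintype.card F = 4)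
    (hs : IsSimpleGroup (POmega F (quadFormPlus 4 F))) (hna : ¬ IsMulCommutative (POmega F (quadFormPlus 4 F))) :
    Row 0 (POmega F (quadFormPlus 4 F)) :=
  oplus_row (f := 2) (N := 67010895544320000) (a := 26) (b := 0)
    (l := [(3, 6, 17), (5, 4, 17), (7, 1, 5), (13, 1, 5), (17, 2, 7)])
    hF (by norm_num) (by norm_num) (by norm_num) (by decide +kernel) (by decide +kernel) hs hna

theorem ominus_4_2 (hF : Fintype.card F = 2) {α β : F}
    (hab : ∀ z₁ z₂ : F, z₁ ^ 2 + α * z₁ * z₂ + β * z₂ ^ 2 = 0 → z₁ = 0 ∧ z₂ = 0)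
    (hs : IsSimpleGroup (POmega F (quadFormMinus (4 - 1) F α β))) (hna : ¬ IsMulCommutative (POmega F (quadFormMinus (4 - 1) F α β))) :
    Row 0 (POmega F (quadFormMinus (4 - 1) F α β)) :=
  ominus_row (f := 1) (N := 197406720) (a := 13) (b := 0)
    (l := [(3, 4, 17), (5, 1, 7), (7, 1, 5), (17, 1, 5)])
    hF (by norm_num) (by norm_num) (by norm_num) (by decide +kernel) (by decide +kernel) hab hs hna

theorem ominus_5_2 (hF : Fintype.card F = 2) {α β : F}
    (hab : ∀ z₁ z₂ : F, z₁ ^ 2 + α * z₁ * z₂ + β * z₂ ^ 2 = 0 → z₁ = 0 ∧ z₂ = 0)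
    (hs : IsSimpleGroup (POmega F (quadFormMinus (5 - 1) F α β))) (hna : ¬ IsMulCommutative (POmega F (quadFormMinus (5 - 1) F α β))) :
    Row 0 (POmega F (quadFormMinus (5 - 1) F α β)) :=
  ominus_row (f := 1) (N := 25015379558400) (a := 21) (b := 0)
    (l := [(3, 6, 17), (5, 2, 7), (7, 1, 5), (11, 1, 7), (17, 1, 5)])
    hF (by norm_num) (by norm_num) (by norm_num) (by decide +kernel) (by decide +kernel) hab hs hna

theorem ominus_6_2 (hF : Fintype.card F = 2) {α β : F}
    (hab : ∀ z₁ z₂ : F, z₁ ^ 2 + α * z₁ * z₂ + β * z₂ ^ 2 = 0 → z₁ = 0 ∧ z₂ = 0)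
    (hs : IsSimpleGroup (POmega F (quadFormMinus (6 - 1) F α β))) (hna : ¬ IsMulCommutative (POmega F (quadFormMinus (6 - 1) F α β))) :
    Row 0 (POmega F (quadFormMinus (6 - 1) F α β)) :=
  ominus_row (f := 1) (N := 51615733565620224000) (a := 31) (b := 0)
    (l := [(3, 6, 17), (5, 3, 11), (7, 1, 5), (11, 1, 7), (13, 1, 5), (17, 1, 5), (31, 1, 7)])
    hF (by norm_num) (by norm_num) (by norm_num) (by decide +kernel) (by decide +kernel) hab hs hna

theorem ominus_7_2 (hF : Fintype.card F = 2) {α β : F}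
    (hab : ∀ z₁ z₂ : F, z₁ ^ 2 + α * z₁ * z₂ + β * z₂ ^ 2 = 0 → z₁ = 0 ∧ z₂ = 0)
    (hs : IsSimpleGroup (POmega F (quadFormMinus (7 - 1) F α β))) (hna : ¬ IsMulCommutative (POmega F (quadFormMinus (7 - 1) F α β))) :
    Row 0 (POmega F (quadFormMinus (7 - 1) F α β)) :=
  ominus_row (f := 1) (N := 1718194449153210615595008000) (a := 43) (b := 0)
    (l := [(3, 9, 31), (5, 3, 11), (7, 2, 11), (11, 1, 7), (13, 1, 5), (17, 1, 5), (31, 1, 7), (43, 1, 5)])
    hF (by norm_num) (by norm_num) (by norm_num) (by decide +kernel) (by decide +kernel) hab hs hna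

theorem ominus_8_2 (hF : Fintype.card F = 2) {α β : F}
    (hab : ∀ z₁ z₂ : F, z₁ ^ 2 + α * z₁ * z₂ + β * z₂ ^ 2 = 0 → z₁ = 0 ∧ z₂ = 0)
    (hs : IsSimpleGroup (POmega F (quadFormMinus (8 - 1) F α β))) (hna : ¬ IsMulCommutative (POmega F (quadFormMinus (8 - 1) F α β))) :
    Row 0 (POmega F (quadFormMinus (8 - 1) F α β)) :=
  ominus_row (f := 1) (N := 918817155086936330770931156779008000) (a := 57) (b := 0)
    (l := [(3, 9, 31), (5, 3, 11), (7, 2, 11), (11, 1, 7), (13, 1, 5), (17, 1, 5), (31, 1, 7), (43, 1, 5), (127, 1, 5), (257, 1, 5)])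
    hF (by norm_num) (by norm_num) (by norm_num) (by decide +kernel) (by decide +kernel) hab hs hna

theorem ominus_9_2 (hF : Fintype.card F = 2) {α β : F}
    (hab : ∀ z₁ z₂ : F, z₁ ^ 2 + α * z₁ * z₂ + β * z₂ ^ 2 = 0 → z₁ = 0 ∧ z₂ = 0)
    (hs : IsSimpleGroup (POmega F (quadFormMinus (9 - 1) F α β))) (hna : ¬ IsMulCommutative (POmega F (quadFormMinus (9 - 1) F α β))) :
    Row 0 (POmega F (quadFormMinus (9 - 1) F α β)) :=
  ominus_row (f := 1) (N := 7877103854727828347931810809383874168094720000) (a := 73) (b := 0)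
    (l := [(3, 13, 31), (5, 4, 11), (7, 2, 11), (11, 1, 7), (13, 1, 5), (17, 2, 7), (19, 1, 7), (31, 1, 7), (43, 1, 5), (127, 1, 5), (257, 1, 5)])
    hF (by norm_num) (by norm_num) (by norm_num) (by decide +kernel) (by decide +kernel) hab hs hna

theorem ominus_4_4 (hF : Fintype.card F = 4) {α β : F}
    (hab : ∀ z₁ z₂ : F, z₁ ^ 2 + α * z₁ * z₂ + β * z₂ ^ 2 = 0 → z₁ = 0 ∧ z₂ = 0)
    (hs : IsSimpleGroup (POmega F (quadFormMinus (4 - 1) F α β))) (hna : ¬ IsMulCommutative (POmega F (quadFormMinus (4 - 1) F α β))) :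
    Row 0 (POmega F (quadFormMinus (4 - 1) F α β)) :=
  ominus_row (f := 2) (N := 67536471195648000) (a := 26) (b := 0)
    (l := [(3, 4, 17), (5, 3, 17), (7, 1, 5), (13, 1, 5), (17, 1, 5), (257, 1, 5)])
    hF (by norm_num) (by norm_num) (by norm_num) (by decide +kernel) (by decide +kernel) hab hs hna

theorem ominus_5_4 (hF : Fintype.card F = 4) {α β : F}
    (hab : ∀ z₁ z₂ : F, z₁ ^ 2 + α * z₁ * z₂ + β * z₂ ^ 2 = 0 → z₁ = 0 ∧ z₂ = 0)
    (hs : IsSimpleGroup (POmega F (quadFormMinus (5 - 1) F α β))) (hna : ¬ IsMulCommutative (POmega F (quadFormMinus (5 - 1) F α β))) :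
    Row 0 (POmega F (quadFormMinus (5 - 1) F α β)) :=
  ominus_row (f := 2) (N := 1156864092324658937856000000) (a := 42) (b := 0)
    (l := [(3, 5, 17), (5, 6, 17), (7, 1, 5), (13, 1, 5), (17, 2, 7), (41, 1, 13), (257, 1, 5)])
    hF (by norm_num) (by norm_num) (by norm_num) (by decide +kernel) (by decide +kernel) hab hs hna

end Cfsg.Agent.H298.EORows
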