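import Cfsg.Agent.H298.EORows
import Cfsg.Agent.S2469

/-!
# `U₆(2)`, `Ω₈⁺(2)` and `Sp₆(2)`: no split (B,N)-pair of characteristic three (helper298)
-/

set_option autoImplicit false
set_option linter.unusedSectionVars false

namespace Cfsg.Agent.H298.EOSpec

open Cfsg Cfsg.Agent.OrdDiv Cfsg.Agent.H298.EOArith Cfsg.Agent.H298.EOAlm Cfsg.Agent.H298.EOCard
  Cfsg.Agent.H298.QTest Cfsg.Agent.FixBN

/-! ### `U₆(2)` -/

section U

open Cfsg.Agent.LieClassical.HermBasic Cfsg.Agent.LieClassical.HermSiegel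
  Cfsg.Agent.LieClassical.HermGen Cfsg.Agent.LieClassical.SUBasic Cfsg.Agent.ClassicalGeometry.PSUAutBasic
  Cfsg.Agent.ClassicalGeometry.PSUAutSylow Cfsg.Agent.H934.IdxPSU Matrix

variable {F : Type*} [Field F] [Fintype F]

theorem hasE_psu (hF : Fintype.card F = 2 ^ 2) : HasE 4 (PSU 6 F 2) := by
  classical
  obtain ⟨e, f, hfr⟩ := exists_frame (F := F) (n := 6) hF (by omega)
  have he0 : e ≠ 0 := by
    rintro rfl
    have := hfr.ef
    rw [herm_zero_left] at this
    exact zero_ne_one this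
  have h1 := hyp hF he0 hfr.ee
  have hle : transvG hF e hfr.ee ≤ siegG hF e hfr.ee := transvG_le_siegG hF _
  have hcZ : Nat.card ((transvG hF e hfr.ee).subgroupOf (siegG hF e hfr.ee)) = Nat.card (transvG hF e hfr.ee) :=
    Nat.card_congr (Subgroup.subgroupOfEquivOfLe hle).toEquiv
  have hZ : Nat.card (transvG hF e hfr.ee) = 2 := by
    have h2 := card_transvG hF he0 hfr.ee
    have h3 : ∀ g g' : transvG hF e hfr.ee, g ≠ 1 → g' ≠ 1 → g = g' := by
      rintro ⟨g, μ, hμ, rfl⟩ ⟨g', μ', hμ', rfl⟩ hg hg'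
      have h0 : μ ≠ 0 := fun h0 => hg (Subtype.ext (transv_eq_one hF hfr.ee hμ h0))
      have h0' : μ' ≠ 0 := fun h0 => hg' (Subtype.ext (transv_eq_one hF hfr.ee hμ' h0))
      have h4 : μ = -1 := by
        have h5 : μ * (μ + 1) = 0 := by rw [← hμ]; ring
        exact eq_neg_of_add_eq_zero_left ((mul_eq_zero.1 h5).resolve_left h0)
      have h4' : μ' = -1 := by
        have h5 : μ' * (μ' + 1) = 0 := by rw [← hμ']; ring
        exact eq_neg_of_add_eq_zero_left ((mul_eq_zero.1 h5).resolve_left h0')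
      subst h4 h4'
      rfl
    have hnt : Nontrivial (transvG hF e hfr.ee) := by
      rw [← Finite.one_lt_card_iff_nontrivial]
      omega
    obtain ⟨g, hg⟩ := exists_ne (1 : transvG hF e hfr.ee)
    rw [Nat.card_eq_two_iff' 1]
    exact ⟨g, hg, fun g' hg' => h3 _ _ hg' hg⟩
  have hE : HasE 4 (siegG hF e hfr.ee) := by
    refine HasE.of_hyp h1 (by rw [hcZ, hZ]) ?_
    rw [Subgroup.card_top]
    exact le_trans (by norm_num) (card_siegG hF hfr)
  refine hE.map ((pr 6 F 2).comp (siegG hF e hfr.ee).subtype) ?_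
  intro x hx hx2
  have h2 : pr 6 F 2 x = 1 := hx
  rw [pr_eq_one_iff] at h2
  obtain ⟨c, hc0, hcc, hc⟩ := exists_scalar_of_mem_center hF (by omega) h2
  obtain ⟨k, hk⟩ := hx2 ⟨x, Subgroup.mem_zpowers x⟩
  have h3 : x ^ 2 ^ k = 1 := congrArg Subtype.val hk
  have h4 : x ^ 3 = 1 := by
    apply Subtype.ext
    apply ext_act
    intro v
    change act ((x : SU 6 F 2) ^ 3) v = act 1 v
    rw [pow_succ, pow_two, act_mul, act_mul, hc, hc, hc, act_one, smul_smul, smul_smul]
    have h5 : c * c * c = 1 := by rw [← hcc]; ring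
    rw [h5, one_smul]
  have h5 : Nat.gcd (2 ^ k) 3 = 1 := Nat.Coprime.pow_left k (by norm_num)
  have h6 := pow_gcd_eq_one.2 ⟨h3, h4⟩
  rwa [h5, pow_one] at h6

theorem psu_six {F : Type*} [Field F] [Fintype F] (hF : Fintype.card F = 2 ^ 2)
    (hs : IsSimpleGroup (PSU 6 F 2)) (hna : ¬ IsMulCommutative (PSU 6 F 2)) : Row 0 (PSU 6 F 2) := by
  refine ⟨fun p hp hp2 hA => ?_, (EORows.psu_6_2 hF hs hna).three⟩
  obtain ⟨rfl, -⟩ := (EORows.psu_6_2 hF hs hna).kill p hp hp2 hA
  exfalso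
  have : Fact (Nat.Prime 2) := ⟨Nat.prime_two⟩
  have : Fact (Nat.Prime 3) := ⟨Nat.prime_three⟩
  have : Finite (PSU 6 F 2) := Quotient.finite _
  have hN : Nat.card (PSU 6 F 2) = 9196830720 := by
    refine eq_of (card_psu (F := F) (n := 6) hF (by omega)) (by decide +kernel) ?_
    norm_num
  have hM := S0815.result (F := F) 2 1 le_rfl (by norm_num) hF 6 (by norm_num) (by norm_num)
  rw [hN] at hM
  obtain ⟨Y, hI, hY⟩ := hA
  obtain ⟨k, hk, h1⟩ := etest hna (by norm_num) Y hI hY (by rw [hN]; norm_num) (hasE_psu hF)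
  have hk7 : k ≤ 7 := by
    by_contra hc
    push Not at hc
    have h2 : 3 ^ 8 ∣ Nat.card (MulAut (PSU 6 F 2)) :=
      (Nat.prime_three.pow_dvd_iff_le_factorization Nat.card_pos.ne').2 (by omega)
    rw [hM] at h2
    revert h2
    decide +kernel
  interval_cases k <;> revert h1 <;> decide

end U

/-! ### `Ω₈⁺(2)` -/

section O

open Cfsg.Lie Cfsg.Agent.H934 Cfsg.Agent.H934.HeisD4 Cfsg.Agent.H934.HeisChev Cfsg.Agent.H934.HeisRoot

theorem hasE_oplus {F : Type*} [Field F] [Fintype F] (hF : Fintype.card F = 2) :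
    HasE 4 (POmega F (quadFormPlus 4 F)) := by
  obtain ⟨e⟩ := Cfsg.Agent.S1082.result (F := F)
  have : Finite (Cfsg.isometryGroup F (Cfsg.quadFormPlus 4 F)) := inferInstance
  have : Finite (Cfsg.POmega F (Cfsg.quadFormPlus 4 F)) := inferInstance
  have hfin : Finite ↥(chevD4.group F) := Finite.of_equiv _ e.symm.toEquiv
  have h1 := (tab.rh hD tab_ok F).toData.hyp
  have hc1 := (tab.rh hD tab_ok F).toData.card_ZZ
  have hc2 := (tab.rh hD tab_ok F).toData.card_QQ
  have hE : HasE 4 (tab.rh hD tab_ok F).toData.Pg := by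
    refine HasE.of_hyp h1 ?_ ?_
    · rw [hc1, Nat.card_eq_fintype_card, hF]
    · rw [hc2, Nat.card_fun, Nat.card_eq_fintype_card, Nat.card_eq_fintype_card, hF, Fintype.card_fin]
      norm_num
  exact hE.of_injective (e.toMonoidHom.comp (tab.rh hD tab_ok F).toData.Pg.subtype)
    (e.injective.comp (Subgroup.subtype_injective _))

theorem oplus_four {F : Type*} [Field F] [Fintype F] (hF : Fintype.card F = 2)
    (hs : IsSimpleGroup (POmega F (quadFormPlus 4 F))) (hna : ¬ IsMulCommutative (POmega F (quadFormPlus 4 F))) :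
    Row 0 (POmega F (quadFormPlus 4 F)) := by
  refine ⟨fun p hp hp2 hA => ?_, (EORows.oplus_4_2 hF hs hna).three⟩
  obtain ⟨rfl, -⟩ := (EORows.oplus_4_2 hF hs hna).kill p hp hp2 hA
  exfalso
  have : Fact (Nat.Prime 2) := ⟨Nat.prime_two⟩
  have : Fact (Nat.Prime 3) := ⟨Nat.prime_three⟩
  have : Finite (POmega F (quadFormPlus 4 F)) := Quotient.finite _
  have hN : Nat.card (POmega F (quadFormPlus 4 F)) = 174182400 := by
    refine eq_of (card_oplus (F := F) (m := 4) (by omega)) (by rw [hF]; decide +kernel) ?_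
    rw [hF]; norm_num
  have hM := S0817.result (F := F) 2 1 le_rfl (by rw [hF]; norm_num) 4 le_rfl
  rw [hN] at hM
  obtain ⟨Y, hI, hY⟩ := hA
  obtain ⟨k, hk, h1⟩ := etest hna (by norm_num) Y hI hY (by rw [hN]; norm_num) (hasE_oplus hF)
  have hk7 : k ≤ 6 := by
    by_contra hc
    push Not at hc
    have h2 : 3 ^ 7 ∣ Nat.card (MulAut (POmega F (quadFormPlus 4 F))) :=
      (Nat.prime_three.pow_dvd_iff_le_factorization Nat.card_pos.ne').2 (by omega)
    rw [hM, if_pos rfl, if_pos rfl] at h2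
    revert h2
    decide +kernel
  interval_cases k <;> revert h1 <;> decide

end O

/-! ### `Sp₆(2)` -/

section S

theorem ord_three : 2 = orderOf ((2 : ℕ) : ZMod 3) := by
  have : Fact (Nat.Prime 2) := ⟨Nat.prime_two⟩
  exact (orderOf_eq_prime (by decide) (by decide)).symm

theorem ord_seven : 3 = orderOf ((2 : ℕ) : ZMod 7) := by
  have : Fact (Nat.Prime 3) := ⟨Nat.prime_three⟩
  exact (orderOf_eq_prime (by decide) (by decide)).symm

theorem psp_three {F : Type*} [Field F] [Fintype F] (hF : Fintype.card F = 2)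
    (hs : IsSimpleGroup (PSp 3 F)) (hna : ¬ IsMulCommutative (PSp 3 F)) : Row 0 (PSp 3 F) := by
  refine ⟨fun p hp hp2 hA => ?_, (EORows.psp_3_2 hF hs hna).three⟩
  obtain ⟨rfl, -⟩ := (EORows.psp_3_2 hF hs hna).kill p hp hp2 hA
  exfalso
  have : Fact (Nat.Prime 2) := ⟨Nat.prime_two⟩
  have : Fact (Nat.Prime 3) := ⟨Nat.prime_three⟩
  have : Fact (Nat.Prime 7) := ⟨by norm_num⟩
  have : Finite (PSp 3 F) := Quotient.finite _
  have hN : Nat.card (PSp 3 F) = 1451520 := by
    have h1 := card_psp (F := F) (m := 3) (by omega)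
    rw [hF, show Nat.gcd 2 (2 - 1) = 1 from rfl, one_mul] at h1
    rw [h1]
    decide +kernel
  have hM := S0814.result (F := F) 2 1 le_rfl (by rw [hF]; norm_num) 3 (by norm_num) (by norm_num)
  rw [if_neg (by norm_num), show Nat.gcd 2 (2 ^ 1 - 1) = 1 from rfl, mul_one, mul_one, one_mul] at hM
  obtain ⟨Y, hI, hY⟩ := hA
  obtain ⟨g, hg⟩ := exists_prime_orderOf_dvd_card' (G := PSp 3 F) 7 (by rw [hN]; norm_num)
  obtain ⟨k, hk0, hk, h1⟩ := qtest hna Y hI hY (by rw [hN]; norm_num) (r := 7) (by norm_num) (by norm_num) (by norm_num) hg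
  have hinj := H329.CompSplit.conj_injective hna
  have hsurj : Function.Surjective (MulAut.conj : PSp 3 F →* MulAut (PSp 3 F)) :=
    ((Nat.bijective_iff_injective_and_card _).2 ⟨hinj, hM.symm⟩).2
  have hcY : Nat.card Y = 1451520 := by
    have h2 : Y = ⊤ := by
      rw [eq_top_iff]
      intro α _
      obtain ⟨h, rfl⟩ := hsurj α
      exact hI ⟨h, rfl⟩
    rw [h2, Subgroup.card_top, hM, hN]
  have hz : (Nat.card ↥(Subgroup.centralizer ({ii Y hI g} : Set Y))).factorization 3 = 0 := by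
    by_contra hne
    have h3 : 3 ∣ Nat.card ↥(Subgroup.centralizer ({ii Y hI g} : Set Y)) := Nat.dvd_of_factorization_pos hne
    obtain ⟨c, hc⟩ := exists_prime_orderOf_dvd_card' 3 h3
    obtain ⟨h, hh⟩ := hsurj ((c : Y) : MulAut (PSp 3 F))
    have ho : orderOf h = 3 := by
      rw [← orderOf_injective _ hinj h, hh, Subgroup.orderOf_coe, Subgroup.orderOf_coe, hc]
    have hcm : h * g = g * h := by
      apply hinj
      rw [map_mul, map_mul, hh]
      have h5 := Subgroup.mem_centralizer_singleton_iff.1 c.2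
      have h6 := congrArg (fun y : Y => (y : MulAut (PSp 3 F))) h5
      exact h6
    have ho2 : orderOf (h * g) = 3 * 7 := by
      rw [Commute.orderOf_mul_eq_mul_orderOf_of_coprime (show Commute h g from hcm) (by rw [ho, hg]; norm_num), ho, hg]
    have hch : CharP F 2 := charP_of_card_eq_prime hF
    have o1 : 2 = orderOf ((2 : ℕ) : ZMod 3) := ord_three
    have o2 : 3 = orderOf ((2 : ℕ) : ZMod 7) := ord_seven
    have h7 := (S2469.result (F := F) 2 3 (by norm_num) (by norm_num) 3 7 Nat.prime_three (by norm_num) (by norm_num)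
      (by norm_num) (by norm_num) (by norm_num) (by norm_num) (by rw [hN]; norm_num) (by rw [hN]; norm_num)
      2 3 1 3 (by rw [hF]; exact o1) (by rw [hF]; exact o2) (Or.inr ⟨by decide, rfl⟩) (Or.inl ⟨by decide, rfl⟩) (by norm_num)).2
      ⟨by norm_num, by
        rintro ⟨t, -, ht⟩
        omega⟩
    exact h7 ⟨h * g, ho2⟩
  rw [hz, add_zero, hcY] at hk
  have h4 : k = 4 := by
    rw [← hk]
    apply le_antisymm
    · by_contra hc
      push Not at hc
      have h2 : 3 ^ 5 ∣ 1451520 := (Nat.prime_three.pow_dvd_iff_le_factorization (by norm_num)).2 (by omega)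
      revert h2
      decide
    · exact (Nat.prime_three.pow_dvd_iff_le_factorization (by norm_num)).1 (by decide)
  subst h4
  revert h1
  decide

end S

end Cfsg.Agent.H298.EOSpec
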