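import Cfsg.Agent.H329.CompExtra
import Cfsg.Agent.H934.Heis
import Cfsg.Agent.Characters.SchurBound

/-!
# Tests for almost simple groups with a split (B,N)-pair (helper298)

`K` finite simple, not commutative, `Inn(K) ≤ Y ≤ Aut(K)`, `Y` with a split (B,N)-pair of characteristic `p ≠ 2`
(`HasSplit p Y`), `p ∣ |K|`.

* `qtest` : for an element `g` of odd prime order `r ≠ p` of `K` there is `k > 0` with
  `v_p(|Y|) = k + v_p(|C_Y(g)|)` and `r ∣ p ^ k - 1` or `r ∣ p ^ k + 1`;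
* `qtest_card` : if `r ≠ 2, p` is a prime divisor of `|K|`, then `r ∣ p ^ (2 k) - 1` for some `0 < k ≤ v_p(|Aut(K)|)`;
* `etest` : if `K` contains an extraspecial group of order `2 ^ (2 m + 1)` (`HasE m K`), then `2 ^ (m + 1) ∣ p ^ k - 1`
  for some `0 < k ≤ v_p(|Aut(K)|)` or `2 ^ (m + 1) ∣ p ^ k + 1` for some `k ≤ v_p(|Aut(K)|)`.
-/

set_option autoImplicit false
set_option linter.unusedSectionVars false

namespace Cfsg.Agent.H298.QTest

open Cfsg Cfsg.Agent.FixBN Subgroup Cfsg.Agent.Characters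

/-- The congruence for the Steinberg character. -/
theorem qtest_group {Y : Type*} [Group Y] [Finite Y] {p : ℕ} [hpp : Fact p.Prime] (h : HasSplit p Y)
    (hY : ∀ M : Subgroup Y, M.Normal → M ≠ ⊥ → p ∣ Nat.card M) {r : ℕ} (hr : r.Prime) (hr2 : r ≠ 2) (hrp : r ≠ p)
    {g : Y} (hg : orderOf g = r) :
    ∃ k : ℕ, k ≠ 0 ∧
      (Nat.card Y).factorization p = k + (Nat.card ↥(centralizer ({g} : Set Y))).factorization p ∧
      (r ∣ p ^ k - 1 ∨ r ∣ p ^ k + 1) := by
  obtain ⟨χ, ⟨n, ρ, hρ, rfl⟩, hχ1, hχu, hχr⟩ := H329.StSplit.exists_value h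
  set b := (Nat.card Y).factorization p with hb
  set a := (Nat.card ↥(centralizer ({g} : Set Y))).factorization p with ha
  have hab : a ≤ b := (Nat.factorization_le_iff_dvd Nat.card_pos.ne' Nat.card_pos.ne').2
    (Subgroup.card_subgroup_dvd_card _) p
  have hord : ¬ p ∣ orderOf g := by
    rw [hg]
    exact fun hd => hrp ((Nat.prime_dvd_prime_iff_eq hpp.out hr).1 hd).symm
  have hne : ρ.character g ≠ ((p ^ b : ℕ) : ℂ) := by
    intro h0
    have h1 : ρ g = LinearMap.id := by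
      rw [← Values.character_eq_finrank_iff, ← Representation.char_one ρ, hχ1, h0]
    have hker : g ∈ MonoidHom.ker ρ := h1
    have hnb : MonoidHom.ker ρ ≠ ⊥ := by
      intro hb
      rw [hb, Subgroup.mem_bot] at hker
      rw [hker, orderOf_one] at hg
      exact hr.one_lt.ne hg
    obtain ⟨y, hy⟩ := exists_prime_orderOf_dvd_card' p (hY _ inferInstance hnb)
    have hy1 : (y : Y) ≠ 1 := by
      intro hh
      have : y = 1 := Subtype.ext hh
      rw [this, orderOf_one] at hy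
      exact hpp.out.one_lt.ne hy
    have hpg : IsPGroup p (Subgroup.zpowers (y : Y)) := by
      apply IsPGroup.of_card (n := 1)
      rw [Nat.card_zpowers, Subgroup.orderOf_coe, hy, pow_one]
    obtain ⟨Q, hQ⟩ := hpg.exists_le_sylow
    have h2 := hχu Q y (hQ (Subgroup.mem_zpowers _)) hy1
    have h3 : ρ.character (y : Y) = ρ.character 1 := by
      have hy2 : ρ (y : Y) = ρ 1 := by rw [map_one]; exact y.2
      change LinearMap.trace ℂ _ (ρ (y : Y)) = LinearMap.trace ℂ _ (ρ 1)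
      rw [hy2]
    rw [h3, hχ1] at h2
    have h4 : p ^ b = 0 := by exact_mod_cast h2
    exact (pow_pos hpp.out.pos _).ne' h4
  have hcop : Nat.Coprime r (p ^ a) := Nat.Coprime.pow_right _ ((Nat.coprime_primes hr hpp.out).2 hrp)
  obtain ⟨k, hk⟩ := Nat.exists_eq_add_of_le hab
  have hchar : IsCharacter Y ρ.character := ⟨n, ρ, rfl⟩
  rcases hχr g hord with h2 | h2
  · obtain ⟨j, -, -, hj⟩ := SchurBound.value_eq hr hchar hχ1 g (k := 0) (by rw [hg, zero_add, pow_one])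
      (q := ((p ^ a : ℕ) : ℚ)) (by rw [h2]; push_cast; rfl) hne
    rw [h2] at hj
    have hj' : p ^ b = p ^ a + r * j := by
      have h5 := sub_eq_iff_eq_add.1 hj.symm
      exact_mod_cast h5
    refine ⟨k, ?_, by rw [hk, add_comm], Or.inl ?_⟩
    · rintro rfl
      rw [add_zero] at hk
      rw [hk] at hne
      exact hne h2
    · apply hcop.dvd_of_dvd_mul_left
      rw [Nat.mul_sub, mul_one, ← pow_add, ← hk, hj', Nat.add_sub_cancel_left]
      exact dvd_mul_right _ _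
  · obtain ⟨j, -, -, hj⟩ := SchurBound.value_eq hr hchar hχ1 g (k := 0) (by rw [hg, zero_add, pow_one])
      (q := -((p ^ a : ℕ) : ℚ)) (by rw [h2]; push_cast; rfl) hne
    rw [h2] at hj
    have hj' : p ^ b + p ^ a = r * j := by
      have h5 := sub_eq_iff_eq_add.1 hj.symm
      have h6 : ((p ^ b : ℕ) : ℂ) + ((p ^ a : ℕ) : ℂ) = r * j := by rw [h5]; ring
      exact_mod_cast h6
    have hdv : r ∣ p ^ k + 1 := by
      apply hcop.dvd_of_dvd_mul_left
      rw [Nat.mul_add, mul_one, ← pow_add, ← hk, hj']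
      exact dvd_mul_right _ _
    refine ⟨k, ?_, by rw [hk, add_comm], Or.inr hdv⟩
    rintro rfl
    rw [pow_zero] at hdv
    exact hr2 ((Nat.prime_dvd_prime_iff_eq hr Nat.prime_two).1 hdv)

section Almost

variable {K : Type*} [Group K] [Finite K] [IsSimpleGroup K] (hna : ¬ IsMulCommutative K)
  {p : ℕ} [hpp : Fact p.Prime]

/-- `K` in `Y` -/
def ii (Y : Subgroup (MulAut K)) (hI : (MulAut.conj : K →* MulAut K).range ≤ Y) : K →* Y :=
  (MulAut.conj : K →* MulAut K).codRestrict Y fun q => hI ⟨q, rfl⟩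

include hna in
theorem ii_injective (Y : Subgroup (MulAut K)) (hI : (MulAut.conj : K →* MulAut K).range ≤ Y) :
    Function.Injective (ii Y hI) :=
  fun _ _ hab => H329.CompSplit.conj_injective hna (congrArg Subtype.val hab)

include hna in
theorem dvd_card_normal (Y : Subgroup (MulAut K)) (hI : (MulAut.conj : K →* MulAut K).range ≤ Y)
    (hpK : p ∣ Nat.card K) (M : Subgroup Y) (hM : M.Normal) (hne : M ≠ ⊥) : p ∣ Nat.card M := by
  have h2 := H329.CompSplit.inn_le Y hI M hM hne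
  have h3 : (ii Y hI).range ≤ M := by
    rintro _ ⟨q, rfl⟩
    exact h2 q
  have h4 : Nat.card (ii Y hI).range = Nat.card K :=
    Nat.card_congr (MonoidHom.ofInjective (ii_injective hna Y hI)).symm.toEquiv
  exact (h4 ▸ hpK).trans (Subgroup.card_dvd_of_le h3)

theorem fact_le {G : Type*} [Group G] [Finite G] (Y : Subgroup G) :
    (Nat.card Y).factorization p ≤ (Nat.card G).factorization p :=
  (Nat.factorization_le_iff_dvd Nat.card_pos.ne' Nat.card_pos.ne').2 (Subgroup.card_subgroup_dvd_card _) p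

include hna in
/-- **The `r`-test**, for an element of `K`. -/
theorem qtest (Y : Subgroup (MulAut K)) (hI : (MulAut.conj : K →* MulAut K).range ≤ Y)
    (h : HasSplit p Y) (hpK : p ∣ Nat.card K) {r : ℕ} (hr : r.Prime) (hr2 : r ≠ 2) (hrp : r ≠ p)
    {g : K} (hg : orderOf g = r) :
    ∃ k : ℕ, k ≠ 0 ∧
      (Nat.card Y).factorization p = k + (Nat.card ↥(centralizer ({ii Y hI g} : Set Y))).factorization p ∧
      (r ∣ p ^ k - 1 ∨ r ∣ p ^ k + 1) :=
  qtest_group h (dvd_card_normal hna Y hI hpK) hr hr2 hrp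
    (by rw [orderOf_injective _ (ii_injective hna Y hI), hg])

theorem dvd_pow_two_mul {p k r : ℕ} (h : r ∣ p ^ k - 1 ∨ r ∣ p ^ k + 1) : r ∣ p ^ (2 * k) - 1 := by
  have h1 : p ^ (2 * k) - 1 = (p ^ k + 1) * (p ^ k - 1) := by
    rw [pow_mul', pow_two, ← Nat.sq_sub_sq (p ^ k) 1]
    ring_nf
  rw [h1]
  rcases h with h | h
  · exact Dvd.dvd.mul_left h _
  · exact Dvd.dvd.mul_right h _

include hna in
/-- **The `r`-test**, numerical form. -/
theorem qtest_card (Y : Subgroup (MulAut K)) (hI : (MulAut.conj : K →* MulAut K).range ≤ Y)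
    (h : HasSplit p Y) (hpK : p ∣ Nat.card K) {r : ℕ} (hr : r.Prime) (hr2 : r ≠ 2) (hrp : r ≠ p)
    (hrK : r ∣ Nat.card K) :
    ∃ k : ℕ, k ≠ 0 ∧ k ≤ (Nat.card (MulAut K)).factorization p ∧ r ∣ p ^ (2 * k) - 1 := by
  have : Fact r.Prime := ⟨hr⟩
  obtain ⟨g, hg⟩ := exists_prime_orderOf_dvd_card' (G := K) r hrK
  obtain ⟨k, h1, h2, h3⟩ := qtest hna Y hI h hpK hr hr2 hrp hg
  refine ⟨k, h1, ?_, dvd_pow_two_mul h3⟩
  have h4 : (Nat.card Y).factorization p ≤ (Nat.card (MulAut K)).factorization p := fact_le Y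
  omega

end Almost

/-! ### Extraspecial subgroups -/

/-- `K` has a subgroup `E` with a central involution `z` such that all `x ≠ 1, z` are conjugate to `x z` in `E`,
`2 ^ (2 m + 1) ∣ |E|`. -/
def HasE (m : ℕ) (K : Type*) [Group K] : Prop :=
  ∃ (E : Subgroup K) (z : E), IsPGroup 2 E ∧ z ≠ 1 ∧ z * z = 1 ∧ (∀ x, x * z = z * x) ∧
    (∀ x : E, x ≠ 1 → x ≠ z → ∃ h, h * x * h⁻¹ = x * z) ∧ 2 ^ (2 * m + 1) ∣ Nat.card E

theorem HasE.map {m : ℕ} {K : Type*} [Group K] {L : Type*} [Group L] (h : HasE m K) (f : K →* L)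
    (hf : ∀ x : K, f x = 1 → IsPGroup 2 (zpowers x) → x = 1) : HasE m L := by
  obtain ⟨E, z, h1, h2, h3, h4, h5, h6⟩ := h
  have hinj : Function.Injective (f.comp E.subtype) := by
    rw [injective_iff_map_eq_one]
    rintro ⟨x, hx⟩ hx1
    apply Subtype.ext
    refine hf x hx1 (h1.to_le ?_)
    rwa [zpowers_le]
  let e : E ≃* (f.comp E.subtype).range := MonoidHom.ofInjective hinj
  refine ⟨(f.comp E.subtype).range, e z, ?_, ?_, ?_, ?_, ?_, ?_⟩
  · exact h1.of_equiv e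
  · intro hz
    exact h2 (e.injective (by rw [hz, map_one]))
  · rw [← map_mul, h3, map_one]
  · intro x
    obtain ⟨y, rfl⟩ := e.surjective x
    rw [← map_mul, ← map_mul, h4]
  · intro x hx1 hx2
    obtain ⟨y, rfl⟩ := e.surjective x
    obtain ⟨g, hg⟩ := h5 y (fun h2 => hx1 (by rw [h2, map_one])) (fun h2 => hx2 (by rw [h2]))
    exact ⟨e g, by rw [← map_mul, ← map_inv, ← map_mul, ← map_mul, hg]⟩
  · rwa [← Nat.card_congr e.toEquiv]

theorem HasE.of_injective {m : ℕ} {K : Type*} [Group K] {L : Type*} [Group L] (h : HasE m K) (f : K →* L)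
    (hf : Function.Injective f) : HasE m L :=
  h.map f fun x hx _ => hf (by rw [hx, map_one])

/-- From the special groups of helper934. -/
theorem HasE.of_hyp {P : Type*} [Group P] [Finite P] {Z Q : Subgroup P} (h : H934.Heis.Hyp Z Q) {m : ℕ}
    (hZ : Nat.card Z = 2) (hQ : 2 ^ (2 * m + 1) ≤ Nat.card Q) : HasE m P := by
  obtain ⟨z, hz1, hz2⟩ := Nat.card_eq_two_iff' (1 : Z) |>.1 hZ
  have hz1 : z ≠ 1 := hz1
  have hZz : ∀ y ∈ Z, y = 1 ∨ y = z := by
    intro y hy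
    by_cases h1 : (⟨y, hy⟩ : Z) = 1
    · exact Or.inl (congrArg Subtype.val h1)
    · exact Or.inr (congrArg Subtype.val (hz2 ⟨y, hy⟩ h1))
  have hzz : (z : P) * z = 1 := by
    rcases hZz ((z : P) * z) (mul_mem z.2 z.2) with h1 | h1
    · exact h1
    · exact absurd (Subtype.ext (mul_eq_left.1 h1)) hz1
  have hsq : ∀ x ∈ Q, x * x ∈ Z := by
    intro x hx
    by_contra hxx
    obtain ⟨y, hy, hxy⟩ := h.special _ (mul_mem hx hx) hxx z z.2
    have h1 := h.comm_mem x hx y hy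
    have h2 : x * x * y * (x * x)⁻¹ * y⁻¹ = (x * y * x⁻¹ * y⁻¹) * (x * y * x⁻¹ * y⁻¹) := by
      have h3 := h.central _ h1 x
      calc x * x * y * (x * x)⁻¹ * y⁻¹ = x * (x * y * x⁻¹ * y⁻¹) * (y * x⁻¹ * y⁻¹) := by group
        _ = (x * y * x⁻¹ * y⁻¹) * x * (y * x⁻¹ * y⁻¹) := by rw [h3]
        _ = _ := by group
    rw [h2] at hxy
    rcases hZz _ h1 with h3 | h3
    · rw [h3, mul_one] at hxy
      exact hz1 (Subtype.ext hxy.symm)
    · rw [h3, hzz] at hxy
      exact hz1 (Subtype.ext hxy.symm)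
  have hzQ : (z : P) ∈ Q := h.le z.2
  have hp2 : IsPGroup 2 Q := by
    rintro ⟨x, hx⟩
    refine ⟨2, Subtype.ext ?_⟩
    change x ^ 2 ^ 2 = 1
    have h1 := hsq x hx
    rcases hZz _ h1 with h2 | h2
    · calc x ^ 2 ^ 2 = (x * x) * (x * x) := by rw [← pow_two, ← pow_two, ← pow_mul]; norm_num
        _ = 1 := by rw [h2, mul_one]
    · calc x ^ 2 ^ 2 = (x * x) * (x * x) := by rw [← pow_two, ← pow_two, ← pow_mul]; norm_num
        _ = 1 := by rw [h2, hzz]
  refine ⟨Q, ⟨z, hzQ⟩, hp2, ?_, ?_, ?_, ?_, ?_⟩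
  · intro h1
    exact hz1 (Subtype.ext (congrArg (fun y : Q => (y : P)) h1))
  · exact Subtype.ext hzz
  · rintro ⟨x, hx⟩
    exact Subtype.ext (h.central z z.2 x)
  · rintro ⟨x, hx⟩ hx1 hx2
    have hxZ : x ∉ Z := by
      intro hxZ
      rcases hZz x hxZ with h1 | h1
      · exact hx1 (Subtype.ext h1)
      · exact hx2 (Subtype.ext h1)
    obtain ⟨y, hy, hxy⟩ := h.special x hx hxZ z z.2
    refine ⟨⟨y, hy⟩, Subtype.ext ?_⟩
    change y * x * y⁻¹ = x * z
    have h3 : (z : P)⁻¹ = z := inv_eq_of_mul_eq_one_left hzz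
    have h4 : y * x * y⁻¹ * x⁻¹ = (z : P)⁻¹ := by
      rw [← hxy]
      group
    rw [mul_inv_eq_iff_eq_mul, h3] at h4
    rw [h4, h.central z z.2 x]
  · obtain ⟨k, hk⟩ := (IsPGroup.iff_card (p := 2)).1 hp2
    rw [hk] at hQ ⊢
    exact pow_dvd_pow _ ((Nat.pow_le_pow_iff_right (by norm_num)).1 hQ)

section Almost

variable {K : Type*} [Group K] [Finite K] [IsSimpleGroup K] (hna : ¬ IsMulCommutative K)
  {p : ℕ} [hpp : Fact p.Prime]

include hna in
/-- **The test with an extraspecial group.** -/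
theorem etest (hp2 : p ≠ 2) (Y : Subgroup (MulAut K)) (hI : (MulAut.conj : K →* MulAut K).range ≤ Y)
    (h : HasSplit p Y) (hpK : p ∣ Nat.card K) {m : ℕ} (hE : HasE m K) :
    ∃ k ≤ (Nat.card (MulAut K)).factorization p,
      (k ≠ 0 ∧ 2 ^ (m + 1) ∣ p ^ k - 1) ∨ 2 ^ (m + 1) ∣ p ^ k + 1 := by
  have : Fact (Nat.Prime 2) := ⟨Nat.prime_two⟩
  obtain ⟨E, z, -, h1, h2, h3, h4, h5⟩ := hE.of_injective (ii Y hI) (ii_injective hna Y hI)
  obtain ⟨k, hk, hcase⟩ := H329.ExtraSp.no_extra_pow hp2 h (dvd_card_normal hna Y hI hpK) E h1 h2 h3 h4 h5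
  exact ⟨k, hk.trans (fact_le Y), hcase⟩

end Almost

end Cfsg.Agent.H298.QTest
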